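import Mathlib
import Groth.Agent.Lib.Helper50.SepClosureFG
import Groth.Agent.Lib.Helper50.GeomIrredComp

/-!
# "All irreducible components are geometrically irreducible" (helper8)

Topological formulation `CompGI s` for `s : F ⟶ S`, its stability under base change to the
spectrum of a field, and the bridge to `GeometricallyIrreducible` of the reduced induced
subschemes (via helper50).
-/

set_option autoImplicit false
set_option linter.style.haveILetI false
set_option linter.unusedSectionVars false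

open CategoryTheory AlgebraicGeometry Limits TopologicalSpace

namespace Groth.Agent.H8.GC

universe u

/-- Every irreducible component of `F` has irreducible preimage in every base change of
`s : F ⟶ S` to the spectrum of a field. -/
def CompGI {F S : Scheme.{u}} (s : F ⟶ S) : Prop :=
  ∀ Z ∈ irreducibleComponents ↥F, ∀ ⦃K : Type u⦄ [Field K] (y : Spec (CommRingCat.of K) ⟶ S)
    ⦃T : Scheme.{u}⦄ (fst : T ⟶ F) (snd : T ⟶ Spec (CommRingCat.of K)),
    IsPullback fst snd s y → IsIrreducible (⇑fst ⁻¹' Z)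

theorem isIrreducible_preimage_of_isIso {X Y : Scheme.{u}} (e : X ⟶ Y) [IsIso e] {S : Set Y}
    (hS : IsIrreducible S) : IsIrreducible (⇑e ⁻¹' S) := by
  have : ⇑e ⁻¹' S = ⇑(inv e) '' S := by
    ext x
    constructor
    · intro hx
      refine ⟨e x, hx, ?_⟩
      rw [← Scheme.Hom.comp_apply, IsIso.hom_inv_id]; rfl
    · rintro ⟨y, hy, rfl⟩
      show e ((inv e) y) ∈ S
      rw [← Scheme.Hom.comp_apply, IsIso.inv_hom_id]
      exact hy
  rw [this]
  exact hS.image _ (inv e).continuous.continuousOn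

theorem CompGI.of_isPullback {F₁ F₂ S₁ : Scheme.{u}} {L₂ : Type u} [Field L₂] {s₁ : F₁ ⟶ S₁}
    {s₂ : F₂ ⟶ Spec (CommRingCat.of L₂)} {π : F₂ ⟶ F₁} {b : Spec (CommRingCat.of L₂) ⟶ S₁}
    (h₁ : CompGI s₁) (hp : IsPullback π s₂ s₁ b) : CompGI s₂ := by
  intro Z' hZ' K _ y T fst snd hT
  -- the component of `F₁` containing the image of `Z'`
  have himg : IsIrreducible (⇑π '' Z') := hZ'.1.image _ π.continuous.continuousOn
  obtain ⟨Z, hZ, hsub⟩ := exists_mem_irreducibleComponents_subset_of_isIrreducible _ himg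
  have hpre : IsIrreducible (⇑π ⁻¹' Z) := h₁ Z hZ b π s₂ hp
  have hle : Z' ⊆ ⇑π ⁻¹' Z := fun x hx => hsub ⟨x, hx, rfl⟩
  have heq : Z' = ⇑π ⁻¹' Z := Set.Subset.antisymm hle (hZ'.2 hpre hle)
  have hpaste : IsPullback (fst ≫ π) snd s₁ (y ≫ b) := hT.paste_horiz hp
  have := h₁ Z hZ (y ≫ b) (fst ≫ π) snd hpaste
  rw [heq]
  exact this

theorem CompGI.geometricallyIrreducible {F : Scheme.{u}} {L : Type u} [Field L]
    {s : F ⟶ Spec (CommRingCat.of L)} (h : CompGI s) (Z : Set ↥F)
    (hZ : Z ∈ irreducibleComponents ↥F) :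
    GeometricallyIrreducible
      ((Scheme.IdealSheafData.vanishingIdeal
        ⟨Z, isClosed_of_mem_irreducibleComponents Z hZ⟩).subschemeι ≫ s) :=
  Groth.Agent.Lib.Helper50.geometricallyIrreducible_subscheme_of_forall_isIrreducible s Z _
    (fun _ _ _ => h Z hZ _ _ _ (IsPullback.of_hasPullback _ _))

theorem exists_finite_separable_compGI {k : Type u} [Field k] {X : Scheme.{u}}
    (f : X ⟶ Spec (CommRingCat.of k)) [LocallyOfFiniteType f]
    (hirr : (irreducibleComponents ↥X).Finite) :
    ∃ (k' : Type u) (_ : Field k') (_ : Algebra k k'), FiniteDimensional k k' ∧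
      Algebra.IsSeparable k k' ∧
      CompGI (pullback.snd f (Spec.map (CommRingCat.ofHom (algebraMap k k')))) := by
  haveI : Finite ↥(irreducibleComponents ↥X) := hirr.to_subtype
  obtain ⟨L, hF, hA, hfd, hsep, hL⟩ := Groth.Agent.Lib.Helper50.exists_finite_separable_geomIrred f (by
    intro Z
    obtain ⟨x, hx⟩ := QuasiSober.sober Z.2.1 (isClosed_of_mem_irreducibleComponents Z.1 Z.2)
    obtain ⟨φ, hφ⟩ := Groth.Agent.Lib.Helper50.exists_ringHom_residueField f x
    refine ⟨x, φ, hx, hφ, ?_⟩
    letI := φ.toAlgebra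
    haveI : Algebra.EssFiniteType k (X.residueField x) :=
      Groth.Agent.Lib.Helper50.essFiniteType_residueField f x φ hφ
    exact Groth.Agent.Lib.Helper50.finiteDimensional_separableClosure_of_essFiniteType k
      (X.residueField x))
  refine ⟨L, hF, hA, hfd, hsep, ?_⟩
  intro Z hZ K _ y T fst snd hT
  obtain ⟨φ, rfl⟩ := Spec.map_surjective y
  letI : Algebra L K := φ.hom.toAlgebra
  have h0 := hL K Z hZ
  have hy : Spec.map φ = Spec.map (CommRingCat.ofHom (algebraMap L K)) := rfl
  rw [hy] at hT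
  have hfst : fst = hT.isoPullback.hom ≫ pullback.fst _ _ := by simp
  rw [hfst, Scheme.Hom.comp_base, TopCat.coe_comp, Set.preimage_comp]
  exact isIrreducible_preimage_of_isIso _ h0

end Groth.Agent.H8.GC
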