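import Mathlib
import Groth.Agent.Lib.Helper51.GeomFibre
import Groth.Agent.H8.GC.CompGI

/-!
# The locus of geometrically connected fibres: transfer along open maps (helper8)
-/

set_option autoImplicit false
set_option linter.style.haveILetI false
set_option linter.unusedSectionVars false

open CategoryTheory AlgebraicGeometry Limits TopologicalSpace

namespace Groth.Agent.H8.GC

universe u

/-- The locus of points with geometrically connected fibre. -/
def Econn {X Y : Scheme.{u}} (f : X ⟶ Y) : Set ↥Y :=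
  {y | GeometricallyConnected (f.fiberToSpecResidueField y)}

/-- `f` has geometrically connected fibres over a nonempty open. -/
def HasConnOpen {X Y : Scheme.{u}} (f : X ⟶ Y) : Prop :=
  ∃ V : Y.Opens, (V : Set ↥Y).Nonempty ∧ (V : Set ↥Y) ⊆ Econn f

theorem mem_Econn_iff_of_isPullback {X Y X' Y' : Scheme.{u}} {f : X ⟶ Y} {g : Y' ⟶ Y}
    {f' : X' ⟶ Y'} {g' : X' ⟶ X} (hc : IsPullback g' f' f g) (y' : ↥Y') :
    y' ∈ Econn f' ↔ g y' ∈ Econn f :=
  Groth.Agent.Lib.Helper51.geometricallyConnected_fibre_baseChange_iff hc y'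

theorem HasConnOpen.of_isPullback {X Y X' Y' : Scheme.{u}} {f : X ⟶ Y} {g : Y' ⟶ Y}
    {f' : X' ⟶ Y'} {g' : X' ⟶ X} (hc : IsPullback g' f' f g) (hg : IsOpenMap g)
    (h : HasConnOpen f') : HasConnOpen f := by
  obtain ⟨V', hne, hV'⟩ := h
  refine ⟨⟨g '' (V' : Set ↥Y'), hg _ V'.isOpen⟩, hne.image _, ?_⟩
  rintro _ ⟨y', hy', rfl⟩
  exact (mem_Econn_iff_of_isPullback hc y').mp (hV' hy')

theorem HasConnOpen.geometricallyConnected {X Y : Scheme.{u}} {f : X ⟶ Y} (h : HasConnOpen f) :
    ∃ V : Y.Opens, (V : Set ↥Y).Nonempty ∧ GeometricallyConnected (f ∣_ V) := by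
  obtain ⟨V, hne, hV⟩ := h
  refine ⟨V, hne, ?_⟩
  rw [GeometricallyConnected.iff_geometricallyConnected_fiber]
  intro v
  have := (mem_Econn_iff_of_isPullback (isPullback_morphismRestrict f V).flip v).mpr (hV v.2)
  exact this

/-- A continuous map with dense range between irreducible sober spaces preserves the generic
point. -/
theorem map_genericPoint_of_denseRange {Y Y' : Scheme.{u}} [IrreducibleSpace ↥Y]
    [IrreducibleSpace ↥Y'] (g : Y' ⟶ Y) (hg : DenseRange g) :
    g (genericPoint ↥Y') = genericPoint ↥Y := by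
  have h1 : IsGenericPoint (g (genericPoint ↥Y')) (closure (g '' Set.univ)) :=
    (genericPoint_spec ↥Y').image g.continuous
  rw [Set.image_univ, hg.closure_range] at h1
  exact h1.eq (genericPoint_spec ↥Y)

theorem denseRange_of_isOpenMap {Y Y' : Scheme.{u}} [IrreducibleSpace ↥Y] [Nonempty ↥Y']
    (g : Y' ⟶ Y) (hg : IsOpenMap g) : DenseRange g := by
  have ho : IsOpen (Set.range g) := hg.isOpen_range
  have hne : (Set.range g).Nonempty := Set.range_nonempty _
  exact ho.dense hne

/-- Transfer of the two generic-fibre hypotheses along a base change. -/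
theorem compGI_of_isPullback_fiber {X Y X' Y' : Scheme.{u}} {f : X ⟶ Y} {g : Y' ⟶ Y}
    {f' : X' ⟶ Y'} {g' : X' ⟶ X} (hc : IsPullback g' f' f g) (y' : ↥Y')
    (h : CompGI (f.fiberToSpecResidueField (g y'))) : CompGI (f'.fiberToSpecResidueField y') :=
  CompGI.of_isPullback (L₂ := Y'.residueField y') h
    (isPullback_fiberToSpecResidueField_of_isPullback hc y')

end Groth.Agent.H8.GC
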