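import Mathlib
import Groth.Agent.Lib.Helper50.RedBC

/-!
# The reduction of a scheme as a homeomorphic closed subscheme (helper8)
-/

set_option autoImplicit false
set_option linter.style.haveILetI false
set_option linter.unusedSectionVars false

open CategoryTheory AlgebraicGeometry Limits TopologicalSpace

namespace Groth.Agent.H8.GC

universe u

/-- The reduction `Y_red`. -/
noncomputable abbrev red (Y : Scheme.{u}) : Scheme.{u} := Y.nilradical.subscheme

/-- The closed immersion `Y_red ⟶ Y`. -/
noncomputable abbrev redι (Y : Scheme.{u}) : red Y ⟶ Y := Y.nilradical.subschemeι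

instance (Y : Scheme.{u}) : IsReduced (red Y) :=
  Groth.Agent.Lib.Helper50.isReduced_subscheme_nilradical' Y

theorem range_redι (Y : Scheme.{u}) : Set.range (redι Y) = Set.univ := by
  rw [Scheme.IdealSheafData.range_subschemeι, Scheme.support_nilradical]
  rfl

theorem redι_surjective (Y : Scheme.{u}) : Function.Surjective (redι Y) :=
  Set.range_eq_univ.mp (range_redι Y)

theorem redι_isHomeomorph (Y : Scheme.{u}) : IsHomeomorph (redι Y) := by
  rw [isHomeomorph_iff_continuous_isClosedMap_bijective]
  exact ⟨(redι Y).continuous, (redι Y).isClosedEmbedding.isClosedMap,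
    (redι Y).isClosedEmbedding.injective, redι_surjective Y⟩

theorem redι_isOpenMap (Y : Scheme.{u}) : IsOpenMap (redι Y) := (redι_isHomeomorph Y).isOpenMap

instance (Y : Scheme.{u}) [IrreducibleSpace ↥Y] : IrreducibleSpace ↥(red Y) :=
  ((redι_isHomeomorph Y).homeomorph).symm.irreducibleSpace_iff.mp inferInstance |> fun h => h

end Groth.Agent.H8.GC
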