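import Mathlib
import Groth.Agent.S0414
import Groth.Agent.H8.GC.Red
import Groth.Agent.H8.GC.Locus

/-!
# The image of a dominant morphism of finite type to an irreducible scheme contains a nonempty
open (helper8)

No Noetherian or finite presentation hypothesis: via generic flatness over the reduction.
-/

set_option autoImplicit false
set_option linter.style.haveILetI false
set_option linter.unusedSectionVars false

open CategoryTheory AlgebraicGeometry Limits TopologicalSpace

namespace Groth.Agent.H8.GC

universe u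

theorem range_fst_of_isPullback {P X Y Z : Scheme.{u}} {fst : P ⟶ X} {snd : P ⟶ Y} {f : X ⟶ Z}
    {g : Y ⟶ Z} (h : IsPullback fst snd f g) : Set.range fst = f ⁻¹' Set.range g := by
  have e : h.isoPullback.hom ≫ pullback.fst f g = fst := h.isoPullback_hom_fst
  have hsurj : Set.range ⇑h.isoPullback.hom = Set.univ :=
    Set.range_eq_univ.mpr h.isoPullback.hom.homeomorph.surjective
  rw [← e, Scheme.Hom.comp_base, TopCat.coe_comp, Set.range_comp, hsurj, Set.image_univ,
    Scheme.Pullback.range_fst]

theorem range_snd_of_isPullback {P X Y Z : Scheme.{u}} {fst : P ⟶ X} {snd : P ⟶ Y} {f : X ⟶ Z}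
    {g : Y ⟶ Z} (h : IsPullback fst snd f g) : Set.range snd = g ⁻¹' Set.range f :=
  range_fst_of_isPullback h.flip

/-- A morphism locally of finite type and quasi-compact to an irreducible scheme whose image
contains the generic point has image containing a nonempty open. -/
theorem exists_open_subset_range {T Y : Scheme.{u}} [IrreducibleSpace ↥Y] (t : T ⟶ Y)
    [LocallyOfFiniteType t] [QuasiCompact t] (hη : genericPoint ↥Y ∈ Set.range t) :
    ∃ V : Y.Opens, (V : Set ↥Y).Nonempty ∧ (V : Set ↥Y) ⊆ Set.range t := by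
  let i := redι Y
  let t' := pullback.snd t i
  have hrange : Set.range t' = i ⁻¹' Set.range t :=
    range_snd_of_isPullback (IsPullback.of_hasPullback t i)
  obtain ⟨U, hUd, hflat, hlfp⟩ := Groth.Agent.S0414.result t'
  have hiη : i (genericPoint ↥(red Y)) = genericPoint ↥Y :=
    map_genericPoint_of_denseRange i (redι_surjective Y).denseRange
  have hη' : genericPoint ↥(red Y) ∈ Set.range t' := by
    rw [hrange, Set.mem_preimage, hiη]; exact hη
  have hηU : genericPoint ↥(red Y) ∈ U :=
    ((genericPoint_spec ↥(red Y)).mem_open_set_iff U.isOpen).mpr (by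
      simpa using hUd.nonempty)
  have hopen : IsOpenMap (t' ∣_ U) := (t' ∣_ U).isOpenMap
  have hrU : Set.range (t' ∣_ U) = U.ι ⁻¹' Set.range t' :=
    range_fst_of_isPullback (isPullback_morphismRestrict t' U)
  let W : Set ↥(red Y) := U.ι '' Set.range (t' ∣_ U)
  have hWo : IsOpen W := U.ι.isOpenEmbedding.isOpenMap _ hopen.isOpen_range
  refine ⟨⟨i '' W, redι_isOpenMap Y _ hWo⟩, ?_, ?_⟩
  · refine ⟨i (genericPoint ↥(red Y)), genericPoint ↥(red Y), ⟨⟨genericPoint ↥(red Y), hηU⟩, ?_, rfl⟩,
      rfl⟩
    rw [hrU]
    exact hη'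
  · rintro _ ⟨_, ⟨u, hu, rfl⟩, rfl⟩
    rw [hrU] at hu
    have : U.ι u ∈ i ⁻¹' Set.range t := hrange ▸ hu
    exact this

end Groth.Agent.H8.GC
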