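import Mathlib
import Groth.Agent.H8.GC.ImageOpen
import Groth.Agent.Lib.Helper50.ClosedSubBC

/-!
# Base change of a closed subscheme along a geometric point / to a fibre (helper8)
-/

set_option autoImplicit false
set_option linter.style.haveILetI false
set_option linter.unusedSectionVars false

open CategoryTheory AlgebraicGeometry Limits TopologicalSpace

namespace Groth.Agent.H8.GC

universe u

section
variable {A X Y R : Scheme.{u}} (j : A ⟶ X) (f : X ⟶ Y) (r : R ⟶ Y)

/-- The base change of `j : A ⟶ X` to `X ×_Y R`. -/
noncomputable def bcHom : pullback (j ≫ f) r ⟶ pullback f r :=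
  pullback.lift (pullback.fst _ _ ≫ j) (pullback.snd _ _)
    (by rw [Category.assoc, pullback.condition])

@[reassoc (attr := simp)]
theorem bcHom_fst : bcHom j f r ≫ pullback.fst f r = pullback.fst (j ≫ f) r ≫ j :=
  pullback.lift_fst _ _ _

@[reassoc (attr := simp)]
theorem bcHom_snd : bcHom j f r ≫ pullback.snd f r = pullback.snd (j ≫ f) r :=
  pullback.lift_snd _ _ _

theorem isPullback_bcHom :
    IsPullback (bcHom j f r) (pullback.fst (j ≫ f) r) (pullback.fst f r) j := by
  refine IsPullback.of_right ?_ (bcHom_fst j f r) (IsPullback.of_hasPullback f r).flip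
  rw [bcHom_snd]
  exact (IsPullback.of_hasPullback (j ≫ f) r).flip

instance [IsClosedImmersion j] : IsClosedImmersion (bcHom j f r) :=
  MorphismProperty.of_isPullback (isPullback_bcHom j f r).flip inferInstance

theorem range_bcHom : Set.range (bcHom j f r) = (pullback.fst f r) ⁻¹' Set.range j :=
  range_fst_of_isPullback (isPullback_bcHom j f r)

end

/-- Irreducibility of a pullback from irreducibility of the range of a closed immersion. -/
theorem irreducibleSpace_of_isIrreducible_range {A G : Scheme.{u}} (J : A ⟶ G)
    [IsClosedImmersion J] (h : IsIrreducible (Set.range J)) : IrreducibleSpace ↥A := by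
  rw [Groth.Agent.Lib.Helper50.irreducibleSpace_iff_isIrreducible_range J.isEmbedding]
  exact h

/-- A closed immersion into a scheme over a field with "geometrically irreducible range" gives a
geometrically irreducible morphism. -/
theorem geometricallyIrreducible_of_range {F A : Scheme.{u}} {L : Type u} [Field L]
    (s : F ⟶ Spec (CommRingCat.of L)) (i : A ⟶ F) [IsClosedImmersion i]
    (h : ∀ (K : Type u) [Field K] [Algebra L K],
      IsIrreducible (⇑(pullback.fst s (Spec.map (CommRingCat.ofHom (algebraMap L K)))) ⁻¹'
        Set.range i)) :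
    GeometricallyIrreducible (i ≫ s) := by
  rw [GeometricallyIrreducible.eq_geometrically,
    geometrically_iff_of_commRing_of_isClosedUnderIsomorphisms]
  intro K _ _
  have hr := range_bcHom i s (Spec.map (CommRingCat.ofHom (algebraMap L K)))
  exact irreducibleSpace_of_isIrreducible_range
    (bcHom i s (Spec.map (CommRingCat.ofHom (algebraMap L K)))) (hr ▸ h K)

/-- If `f ∣_ V` is geometrically `P`, then `P` holds for the pullback of `f` along any geometric
point landing in `V`. -/
theorem pullback_of_geometrically_restrict {P : ObjectProperty Scheme.{u}}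
    [P.IsClosedUnderIsomorphisms] {X Y : Scheme.{u}} (f : X ⟶ Y) (V : Y.Opens)
    (hf : geometrically P (f ∣_ V)) {K : Type u} [Field K] (q : Spec (CommRingCat.of K) ⟶ Y)
    (hq : Set.range q ⊆ (V : Set ↥Y)) : P (pullback f q) := by
  have hq' : Set.range q ⊆ Set.range V.ι := by rwa [Scheme.Opens.range_ι]
  let q' : Spec (CommRingCat.of K) ⟶ (V : Scheme.{u}) := IsOpenImmersion.lift V.ι q hq'
  have hq'' : q' ≫ V.ι = q := IsOpenImmersion.lift_fac _ _ _
  -- `pullback f q` is a pullback of `f ∣_ V` along `q'`
  have h1 : IsPullback (f ∣_ V) (f ⁻¹ᵁ V).ι V.ι f := isPullback_morphismRestrict f V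
  let l : pullback f q ⟶ (f ⁻¹ᵁ V : Scheme.{u}) :=
    h1.lift (pullback.snd f q ≫ q') (pullback.fst f q)
      (by rw [Category.assoc, hq'', pullback.condition])
  have hl1 : l ≫ (f ∣_ V) = pullback.snd f q ≫ q' := h1.lift_fst _ _ _
  have hl2 : l ≫ (f ⁻¹ᵁ V).ι = pullback.fst f q := h1.lift_snd _ _ _
  have h2 : IsPullback l (pullback.snd f q) (f ∣_ V) q' := by
    refine IsPullback.of_right ?_ hl1 h1.flip
    rw [hl2, hq'']
    exact IsPullback.of_hasPullback f q
  exact hf q' l (pullback.snd f q) h2

end Groth.Agent.H8.GC
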