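import Mathlib

/-!
# Connectedness and finite closed covers (helper8)
-/

set_option autoImplicit false
set_option linter.style.haveILetI false
set_option linter.unusedSectionVars false

namespace Groth.Agent.H8.GC

open Relation

/-- In a preconnected space covered by finitely many nonempty closed sets, the intersection graph
of the cover is connected. -/
theorem reflTransGen_of_finite_closed_cover {F : Type*} [TopologicalSpace F] [PreconnectedSpace F]
    {ι : Type*} [Finite ι] (Z : ι → Set F) (hcl : ∀ i, IsClosed (Z i))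
    (hne : ∀ i, (Z i).Nonempty) (hcov : ⋃ i, Z i = Set.univ) (i j : ι) :
    ReflTransGen (fun a b => (Z a ∩ Z b).Nonempty) i j := by
  classical
  set R : ι → ι → Prop := fun a b => (Z a ∩ Z b).Nonempty with hR
  let S : Set ι := {k | ReflTransGen R i k}
  let A : Set F := ⋃ k ∈ S, Z k
  let B : Set F := ⋃ k ∈ Sᶜ, Z k
  have hA : IsClosed A := (Set.toFinite S).isClosed_biUnion fun k _ => hcl k
  have hB : IsClosed B := (Set.toFinite Sᶜ).isClosed_biUnion fun k _ => hcl k
  have hAB : Aᶜ = B := by
    ext x
    constructor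
    · intro hx
      have hxu : x ∈ ⋃ i, Z i := hcov ▸ Set.mem_univ x
      obtain ⟨k, hk⟩ := Set.mem_iUnion.mp hxu
      refine Set.mem_biUnion (x := k) ?_ hk
      intro hkS
      exact hx (Set.mem_biUnion hkS hk)
    · intro hx hxA
      obtain ⟨k, hkS, hk⟩ := Set.mem_iUnion₂.mp hx
      obtain ⟨l, hlS, hl⟩ := Set.mem_iUnion₂.mp hxA
      exact hkS (ReflTransGen.tail hlS ⟨x, hl, hk⟩)
  have hAo : IsOpen A := by
    rw [← isClosed_compl_iff, hAB]; exact hB
  have hAne : A.Nonempty := by
    obtain ⟨x, hx⟩ := hne i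
    exact ⟨x, Set.mem_biUnion (x := i) ReflTransGen.refl hx⟩
  have hAu : A = Set.univ := IsClopen.eq_univ ⟨hA, hAo⟩ hAne
  obtain ⟨x, hx⟩ := hne j
  have hxA : x ∈ A := hAu ▸ Set.mem_univ x
  obtain ⟨l, hlS, hl⟩ := Set.mem_iUnion₂.mp hxA
  exact ReflTransGen.tail hlS ⟨x, hl, hx⟩

/-- A space covered by finitely many connected sets whose intersection graph is connected is
connected. -/
theorem connectedSpace_of_cover {G : Type*} [TopologicalSpace G] {ι : Type*} [Nonempty ι]
    (s : ι → Set G) (H : ∀ i, IsConnected (s i)) (hcov : ⋃ i, s i = Set.univ)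
    (K : ∀ i j, ReflTransGen (fun a b => (s a ∩ s b).Nonempty) i j) : ConnectedSpace G := by
  have := IsConnected.iUnion_of_reflTransGen H K
  rw [hcov] at this
  exact connectedSpace_iff_univ.mpr this

end Groth.Agent.H8.GC
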