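import Mathlib
import Groth.Agent.H8.GC.ClosedBC
import Groth.Agent.H8.GC.TopConn

/-!
# Pieces for "geometrically connected generic fibre spreads out" (helper8)
-/

set_option autoImplicit false
set_option linter.style.haveILetI false
set_option linter.unusedSectionVars false

open CategoryTheory AlgebraicGeometry Limits TopologicalSpace

namespace Groth.Agent.H8.GC

universe u

/-- `f` has connected pullbacks along all geometric points landing in `V`. -/
def GeomConnOver {X Y : Scheme.{u}} (f : X ⟶ Y) (V : Set ↥Y) : Prop :=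
  ∀ (K : Type u) [Field K] (q : Spec (CommRingCat.of K) ⟶ Y), Set.range q ⊆ V →
    ConnectedSpace ↥(pullback f q)

theorem GeomConnOver.subset_Econn {X Y : Scheme.{u}} {f : X ⟶ Y} {V : Set ↥Y}
    (h : GeomConnOver f V) : V ⊆ Econn f := by
  intro y hy
  show GeometricallyConnected (f.fiberToSpecResidueField y)
  rw [GeometricallyConnected.eq_geometrically]
  intro K _ q T fst snd hT
  have hpaste : IsPullback (fst ≫ f.fiberι y) snd f (q ≫ Y.fromSpecResidueField y) :=
    hT.paste_horiz (IsPullback.of_hasPullback f (Y.fromSpecResidueField y))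
  have hr : Set.range (q ≫ Y.fromSpecResidueField y) ⊆ V := by
    rintro _ ⟨a, rfl⟩
    rw [Scheme.Hom.comp_apply, Scheme.fromSpecResidueField_apply]
    exact hy
  haveI := h K (q ≫ Y.fromSpecResidueField y) hr
  exact hpaste.isoPullback.hom.homeomorph.symm.surjective.connectedSpace
    hpaste.isoPullback.hom.homeomorph.symm.continuous

section Fibre

variable {X Y : Scheme.{u}} (f : X ⟶ Y) (y : ↥Y)

theorem fiberι_mem (z : ↥(f.fiber y)) : f (f.fiberι y z) = y := by
  have : f.fiberι y z ∈ Set.range (f.fiberι y) := ⟨z, rfl⟩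
  rw [f.range_fiberι] at this
  exact this

theorem preimage_closure_image_fiberι (Z : Set ↥(f.fiber y)) (hZ : IsClosed Z) :
    f.fiberι y ⁻¹' closure (f.fiberι y '' Z) = Z := by
  rw [← (f.fiberι y).isEmbedding.isInducing.closure_eq_preimage_closure_image, hZ.closure_eq]

/-- Over an irreducible base, for flat `f` the closures of the irreducible components of the
generic fibre cover the source. -/
theorem exists_mem_closure_image_component [IrreducibleSpace ↥Y] [Flat f] (x : ↥X) :
    ∃ Z ∈ irreducibleComponents ↥(f.fiber (genericPoint ↥Y)),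
      x ∈ closure (f.fiberι (genericPoint ↥Y) '' Z) := by
  have hgen : GeneralizingMap f := Flat.generalizingMap f
  have hspec : genericPoint ↥Y ⤳ f x := by
    rw [specializes_iff_mem_closure, (genericPoint_spec ↥Y).def]; trivial
  obtain ⟨x', hx', hfx'⟩ := hgen hspec
  have hx'r : x' ∈ Set.range (f.fiberι (genericPoint ↥Y)) := by
    rw [f.range_fiberι]; exact hfx'
  obtain ⟨z, rfl⟩ := hx'r
  obtain ⟨Z, hZ, hzZ⟩ := exists_mem_irreducibleComponents_subset_of_isIrreducible
    ({z} : Set ↥(f.fiber (genericPoint ↥Y))) isIrreducible_singleton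
  refine ⟨Z, hZ, ?_⟩
  have h1 : f.fiberι (genericPoint ↥Y) z ∈ closure (f.fiberι (genericPoint ↥Y) '' Z) :=
    subset_closure ⟨z, hzZ rfl, rfl⟩
  exact isClosed_closure.closure_subset_iff.mpr (Set.singleton_subset_iff.mpr h1)
    (specializes_iff_mem_closure.mp hx')

end Fibre

/-- The base change of `j : A ⟶ X` to the fibres over `y`. -/
noncomputable def fiberBC {X Y A : Scheme.{u}} (j : A ⟶ X) (f : X ⟶ Y) (y : ↥Y) :
    (j ≫ f).fiber y ⟶ f.fiber y :=
  bcHom j f (Y.fromSpecResidueField y)

theorem fiberBC_comp {X Y A : Scheme.{u}} (j : A ⟶ X) (f : X ⟶ Y) (y : ↥Y) :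
    fiberBC j f y ≫ f.fiberToSpecResidueField y = (j ≫ f).fiberToSpecResidueField y :=
  bcHom_snd j f (Y.fromSpecResidueField y)

theorem range_fiberBC {X Y A : Scheme.{u}} (j : A ⟶ X) (f : X ⟶ Y) (y : ↥Y) :
    Set.range (fiberBC j f y) = f.fiberι y ⁻¹' Set.range j :=
  range_bcHom j f (Y.fromSpecResidueField y)

instance {X Y A : Scheme.{u}} (j : A ⟶ X) (f : X ⟶ Y) (y : ↥Y) [IsClosedImmersion j] :
    IsClosedImmersion (fiberBC j f y) :=
  inferInstanceAs (IsClosedImmersion (bcHom j f (Y.fromSpecResidueField y)))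

/-- The closure of a "geometrically irreducible" component of a fibre, as a closed subscheme, has
geometrically irreducible fibre. -/
theorem geometricallyIrreducible_fiber_of_closure {X Y A : Scheme.{u}} (f : X ⟶ Y) (y : ↥Y)
    (hgi : CompGI (f.fiberToSpecResidueField y)) (Z : Set ↥(f.fiber y))
    (hZ : Z ∈ irreducibleComponents ↥(f.fiber y)) (j : A ⟶ X) [IsClosedImmersion j]
    (hj : Set.range j = closure (f.fiberι y '' Z)) :
    GeometricallyIrreducible ((j ≫ f).fiberToSpecResidueField y) := by
  rw [← fiberBC_comp j f y]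
  refine geometricallyIrreducible_of_range (L := Y.residueField y)
    (f.fiberToSpecResidueField y) (fiberBC j f y) ?_
  intro K _ _
  have h2 : Set.range (fiberBC j f y) = Z := by
    rw [range_fiberBC, hj]
    exact preimage_closure_image_fiberι f y Z (isClosed_of_mem_irreducibleComponents Z hZ)
  rw [h2]
  exact hgi Z hZ _ _ _ (IsPullback.of_hasPullback _ _)

/-- The image of the intersection of two closed sets meeting the generic fibre contains a
nonempty open. -/
theorem exists_open_subset_image_closed {X Y : Scheme.{u}} [IrreducibleSpace ↥Y] (f : X ⟶ Y)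
    [LocallyOfFiniteType f] [QuasiCompact f] (C : Set ↥X) (hC : IsClosed C)
    (h : ∃ x ∈ C, f x = genericPoint ↥Y) :
    ∃ V : Y.Opens, (V : Set ↥Y).Nonempty ∧ (V : Set ↥Y) ⊆ f '' C := by
  let I := Scheme.IdealSheafData.vanishingIdeal ⟨C, hC⟩
  let j : I.subscheme ⟶ X := I.subschemeι
  have hj : Set.range j = C := by
    rw [Scheme.IdealSheafData.range_subschemeι, Scheme.IdealSheafData.coe_support_vanishingIdeal]
    rfl
  have hη : genericPoint ↥Y ∈ Set.range (j ≫ f) := by
    obtain ⟨x, hxC, hx⟩ := h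
    rw [← hj] at hxC
    obtain ⟨a, rfl⟩ := hxC
    exact ⟨a, by rw [Scheme.Hom.comp_apply]; exact hx⟩
  obtain ⟨V, hne, hV⟩ := exists_open_subset_range (j ≫ f) hη
  refine ⟨V, hne, fun v hv => ?_⟩
  obtain ⟨a, rfl⟩ := hV hv
  refine ⟨j a, hj ▸ ⟨a, rfl⟩, ?_⟩
  rw [Scheme.Hom.comp_apply]

end Groth.Agent.H8.GC
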