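import Mathlib

/-!
# Spreading out a finite separable extension of the "function field" (helper8)

Ring-level lemmas: `φ : A → K` a ring hom to a field whose kernel consists of nilpotents and such
that every element of `K` is a fraction of elements in the image.  A monic separable polynomial over
`K` lifts to a monic separable polynomial over a principal localization of `A`.
-/

set_option autoImplicit false
set_option linter.style.haveILetI false
set_option linter.unusedSectionVars false

open Polynomial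

namespace Groth.Agent.H8.GC

universe u v w

/-- Clearing denominators: every polynomial over `K` becomes liftable after inverting some `a`
with `φ a ≠ 0`. -/
theorem exists_forall_mem_lifts {A : Type u} {K : Type v} [CommRing A] [Field K] (φ : A →+* K)
    (h2 : ∀ z : K, ∃ a b : A, φ a ≠ 0 ∧ z * φ a = φ b) (p : K[X]) :
    ∃ a : A, φ a ≠ 0 ∧ ∀ {A' : Type w} [CommRing A'] (ι : A →+* A') (φ' : A' →+* K),
      φ'.comp ι = φ → IsUnit (ι a) → p ∈ Polynomial.lifts φ' := by
  induction p using Polynomial.induction_on' with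
  | add p q hp hq =>
    obtain ⟨a, ha, Ha⟩ := hp
    obtain ⟨b, hb, Hb⟩ := hq
    refine ⟨a * b, by rw [map_mul]; exact mul_ne_zero ha hb, ?_⟩
    intro A' _ ι φ' hc hu
    rw [map_mul] at hu
    exact add_mem (Ha ι φ' hc (isUnit_of_mul_isUnit_left hu))
      (Hb ι φ' hc (isUnit_of_mul_isUnit_right hu))
  | monomial n z =>
    obtain ⟨a, b, ha, hab⟩ := h2 z
    refine ⟨a, ha, ?_⟩
    intro A' _ ι φ' hc hu
    apply Polynomial.monomial_mem_lifts
    refine ⟨ι b * ↑hu.unit⁻¹, ?_⟩
    have h1 : φ' (ι a) = φ a := by rw [← hc]; rfl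
    have h2' : φ' (ι b) = φ b := by rw [← hc]; rfl
    have h3 : φ' (↑hu.unit⁻¹) * φ a = 1 := by
      rw [← h1, ← map_mul, IsUnit.val_inv_mul, map_one]
    rw [map_mul, h2', ← hab, mul_assoc, mul_comm (φ a), h3, mul_one]

/-- A monic separable polynomial over `K` lifts to a monic separable polynomial over `A'`, when
`ker φ'` consists of nilpotents and the polynomial and its Bézout cofactors are liftable. -/
theorem exists_monic_separable_lift {A' : Type u} {K : Type v} [CommRing A'] [Field K]
    (φ' : A' →+* K) (h1 : ∀ a, φ' a = 0 → IsNilpotent a) (P : K[X]) (hP : P.Monic)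
    (hPl : P ∈ Polynomial.lifts φ') (c d : K[X]) (hc : c ∈ Polynomial.lifts φ')
    (hd : d ∈ Polynomial.lifts φ') (hcd : c * P + d * derivative P = 1) :
    ∃ Q : A'[X], Q.Monic ∧ Q.map φ' = P ∧ Q.natDegree = P.natDegree ∧ Q.Separable := by
  obtain ⟨Q, hQ, hdeg, hmon⟩ := Polynomial.lifts_and_natDegree_eq_and_monic hPl hP
  obtain ⟨c', rfl⟩ := (Polynomial.mem_lifts _).mp hc
  obtain ⟨d', rfl⟩ := (Polynomial.mem_lifts _).mp hd
  refine ⟨Q, hmon, hQ, hdeg, ?_⟩
  set E : A'[X] := c' * Q + d' * derivative Q - 1 with hE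
  have hE0 : E.map φ' = 0 := by
    rw [hE, Polynomial.map_sub, Polynomial.map_add, Polynomial.map_mul, Polynomial.map_mul,
      Polynomial.map_one, ← Polynomial.derivative_map, hQ, hcd, sub_self]
  have hnil : IsNilpotent E := by
    rw [Polynomial.isNilpotent_iff]
    intro i
    apply h1
    have := congrArg (fun q => q.coeff i) hE0
    simpa using this
  have hunit : IsUnit (1 + E) := hnil.isUnit_one_add
  have h1E : c' * Q + d' * derivative Q = 1 + E := by rw [hE]; ring
  obtain ⟨w, hw⟩ := hunit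
  refine ⟨↑w⁻¹ * c', ↑w⁻¹ * d', ?_⟩
  calc ↑w⁻¹ * c' * Q + ↑w⁻¹ * d' * derivative Q
      = ↑w⁻¹ * (c' * Q + d' * derivative Q) := by ring
    _ = 1 := by rw [h1E, ← hw, Units.inv_mul]

/-- `R[X]/(Q)` is étale over `R` for `Q` monic and separable. -/
theorem etale_adjoinRoot_of_monic_of_separable {R : Type u} [CommRing R] (Q : R[X])
    (hQ : Q.Monic) (hs : Q.Separable) : Algebra.Etale R (AdjoinRoot Q) := by
  obtain ⟨a, b, hab⟩ := hs
  let P : StandardEtalePair R :=
    { f := Q, monic_f := hQ, g := 1, cond := ⟨b, a, 0, by rw [pow_zero, ← hab]; ring⟩ }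
  have hu : IsUnit (AdjoinRoot.mk P.f P.g) := by
    show IsUnit (AdjoinRoot.mk Q 1)
    rw [map_one]; exact isUnit_one
  let e1 : AdjoinRoot Q ≃ₐ[AdjoinRoot Q] Localization.Away (AdjoinRoot.mk P.f P.g) :=
    IsLocalization.atUnit (AdjoinRoot Q) (Localization.Away (AdjoinRoot.mk P.f P.g))
      (AdjoinRoot.mk P.f P.g) hu
  let e2 : P.Ring ≃ₐ[R] AdjoinRoot Q :=
    P.equivAwayAdjoinRoot.trans (e1.restrictScalars R).symm
  exact Algebra.Etale.of_equiv e2

end Groth.Agent.H8.GC
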