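import Mathlib
import Groth.Agent.H8.GC.RingLift

/-!
# The generic point of `A'[X]/(Q)` (helper8)

`φ' : A' → K` with nilpotent kernel and `K` "the fraction field"; `Q` monic with irreducible image
`P` in `K[X]`.  Then `B = A'[X]/(Q)` has prime nilradical, equal to the kernel of
`ψ : B → K[X]/(P)`, and `K[X]/(P)` is "the fraction field" of `B / nil`.
-/

set_option autoImplicit false
set_option linter.style.haveILetI false
set_option linter.unusedSectionVars false

open Polynomial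

namespace Groth.Agent.H8.GC

universe u v w

/-- Clearing denominators, multiplicative form. -/
theorem exists_C_mul_eq_map {A : Type u} {K : Type v} [CommRing A] [Field K] (φ : A →+* K)
    (h2 : ∀ z : K, ∃ a b : A, φ a ≠ 0 ∧ z * φ a = φ b) (p : K[X]) :
    ∃ (a : A) (q : A[X]), φ a ≠ 0 ∧ C (φ a) * p = q.map φ := by
  induction p using Polynomial.induction_on' with
  | add p q hp hq =>
    obtain ⟨a, p', ha, Ha⟩ := hp
    obtain ⟨b, q', hb, Hb⟩ := hq
    refine ⟨a * b, C b * p' + C a * q', by rw [map_mul]; exact mul_ne_zero ha hb, ?_⟩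
    rw [Polynomial.map_add, Polynomial.map_mul, Polynomial.map_mul, Polynomial.map_C,
      Polynomial.map_C, ← Ha, ← Hb, map_mul, map_mul]
    ring
  | monomial n z =>
    obtain ⟨a, b, ha, hab⟩ := h2 z
    refine ⟨a, monomial n b, ha, ?_⟩
    rw [Polynomial.map_monomial, ← hab, C_mul_monomial, mul_comm]

section
variable {A' : Type u} {K : Type v} [CommRing A'] [Field K] (φ' : A' →+* K) (Q : A'[X])

/-- The comparison map `A'[X]/(Q) → K[X]/(Q.map φ')`. -/
noncomputable def psi : AdjoinRoot Q →+* AdjoinRoot (Q.map φ') :=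
  AdjoinRoot.map φ' Q (Q.map φ') dvd_rfl

theorem psi_mk (q : A'[X]) : psi φ' Q (AdjoinRoot.mk Q q) = AdjoinRoot.mk (Q.map φ') (q.map φ') := by
  unfold psi AdjoinRoot.map
  rw [AdjoinRoot.lift_mk, ← Polynomial.eval₂_map, ← AdjoinRoot.algebraMap_eq, ← aeval_def,
    AdjoinRoot.aeval_eq]

theorem psi_of (a : A') : psi φ' Q (AdjoinRoot.of Q a) = AdjoinRoot.of (Q.map φ') (φ' a) := by
  unfold psi
  rw [AdjoinRoot.map_of]

theorem psi_comp_of : (psi φ' Q).comp (AdjoinRoot.of Q) = (AdjoinRoot.of (Q.map φ')).comp φ' := by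
  ext a
  exact psi_of φ' Q a

theorem isNilpotent_of_psi_eq_zero (h1 : ∀ a, φ' a = 0 → IsNilpotent a) (hQ : Q.Monic)
    (b : AdjoinRoot Q) (hb : psi φ' Q b = 0) : IsNilpotent b := by
  haveI : Nontrivial A' := φ'.domain_nontrivial
  obtain ⟨q, rfl⟩ := AdjoinRoot.mk_surjective b
  set r := q %ₘ Q with hr
  have hqr : AdjoinRoot.mk Q q = AdjoinRoot.mk Q r := by
    rw [AdjoinRoot.mk_eq_mk]
    refine ⟨q /ₘ Q, ?_⟩
    rw [hr]
    have := Polynomial.modByMonic_add_div q Q
    linear_combination -this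
  rw [hqr] at hb ⊢
  rw [psi_mk, AdjoinRoot.mk_eq_zero] at hb
  have hdeg : (r.map φ').degree < (Q.map φ').degree := by
    calc (r.map φ').degree ≤ r.degree := Polynomial.degree_map_le
      _ < Q.degree := Polynomial.degree_modByMonic_lt q hQ
      _ = (Q.map φ').degree := (hQ.degree_map φ').symm
  have h0 : r.map φ' = 0 := Polynomial.eq_zero_of_dvd_of_degree_lt hb hdeg
  have hnil : IsNilpotent r := by
    rw [Polynomial.isNilpotent_iff]
    intro i
    apply h1
    have := congrArg (fun q => q.coeff i) h0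
    simpa using this
  exact hnil.map (AdjoinRoot.mk Q)

variable [Fact (Irreducible (Q.map φ'))]

theorem ker_psi_eq_nilradical (h1 : ∀ a, φ' a = 0 → IsNilpotent a) (hQ : Q.Monic) :
    RingHom.ker (psi φ' Q) = nilradical (AdjoinRoot Q) := by
  ext b
  rw [RingHom.mem_ker, mem_nilradical]
  refine ⟨isNilpotent_of_psi_eq_zero φ' Q h1 hQ b, fun hb => ?_⟩
  exact (hb.map (psi φ' Q)).eq_zero

theorem isPrime_nilradical_adjoinRoot (h1 : ∀ a, φ' a = 0 → IsNilpotent a) (hQ : Q.Monic) :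
    (nilradical (AdjoinRoot Q)).IsPrime := by
  rw [← ker_psi_eq_nilradical φ' Q h1 hQ]
  exact RingHom.ker_isPrime _

theorem exists_psi_mul_eq (h2 : ∀ z : K, ∃ a b : A', φ' a ≠ 0 ∧ z * φ' a = φ' b)
    (z : AdjoinRoot (Q.map φ')) :
    ∃ b c : AdjoinRoot Q, psi φ' Q c ≠ 0 ∧ z * psi φ' Q c = psi φ' Q b := by
  obtain ⟨p, rfl⟩ := AdjoinRoot.mk_surjective z
  obtain ⟨a, q, ha, hq⟩ := exists_C_mul_eq_map φ' h2 p
  refine ⟨AdjoinRoot.mk Q q, AdjoinRoot.of Q a, ?_, ?_⟩
  · rw [psi_of]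
    exact (map_ne_zero_iff _ (AdjoinRoot.of (Q.map φ')).injective).mpr ha
  · rw [psi_of, psi_mk, ← hq, map_mul, AdjoinRoot.mk_C, mul_comm]

end

/-- Extending a ring hom to a field through "the fraction field". -/
theorem exists_ringHom_comp_eq {B : Type u} {K' : Type v} {L : Type w} [CommRing B] [Field K']
    [Field L] (ψ : B →+* K') (ev : B →+* L) (hker : ∀ b, ψ b = 0 ↔ ev b = 0)
    (hfrac : ∀ z : K', ∃ b c : B, ψ c ≠ 0 ∧ z * ψ c = ψ b) :
    ∃ β : K' →+* L, β.comp ψ = ev := by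
  let D := B ⧸ RingHom.ker ψ
  letI : Algebra D K' := (RingHom.kerLift ψ).toAlgebra
  have hinj : Function.Injective (algebraMap D K') := RingHom.kerLift_injective ψ
  haveI : FaithfulSMul D K' := (faithfulSMul_iff_algebraMap_injective D K').mpr hinj
  haveI : IsFractionRing D K' := by
    apply IsFractionRing.of_field
    intro z
    obtain ⟨b, c, hc, hbc⟩ := hfrac z
    refine ⟨Ideal.Quotient.mk _ b, Ideal.Quotient.mk _ c, ?_⟩
    show z = RingHom.kerLift ψ (Ideal.Quotient.mk _ b) / RingHom.kerLift ψ (Ideal.Quotient.mk _ c)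
    rw [RingHom.kerLift_mk, RingHom.kerLift_mk, eq_div_iff hc, hbc]
  let g : D →+* L := Ideal.Quotient.lift (RingHom.ker ψ) ev
    (fun b hb => (hker b).mp ((RingHom.mem_ker).mp hb))
  have hg : Function.Injective g := by
    rw [injective_iff_map_eq_zero]
    intro x hx
    obtain ⟨b, rfl⟩ := Ideal.Quotient.mk_surjective x
    rw [Ideal.Quotient.eq_zero_iff_mem, RingHom.mem_ker, hker]
    have : g (Ideal.Quotient.mk _ b) = ev b := Ideal.Quotient.lift_mk _ _ _
    rw [← this]; exact hx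
  refine ⟨IsFractionRing.lift hg, ?_⟩
  ext b
  have : ψ b = algebraMap D K' (Ideal.Quotient.mk _ b) := (RingHom.kerLift_mk ψ b).symm
  rw [RingHom.comp_apply, this, IsFractionRing.lift_algebraMap]
  exact Ideal.Quotient.lift_mk _ _ _

end Groth.Agent.H8.GC
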