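import Mathlib
import Groth.Agent.H8.GC.RingGen
import Groth.Agent.H8.GC.CompGI

/-!
# Finite étale covers of an open realizing a finite separable extension of the function field
(helper8)
-/

set_option autoImplicit false
set_option linter.style.haveILetI false
set_option linter.unusedSectionVars false

open CategoryTheory AlgebraicGeometry Limits TopologicalSpace

namespace Groth.Agent.H8.GC

universe u

section Generic

variable {Y : Scheme.{u}} [IrreducibleSpace ↥Y]

theorem genericPoint_mem_of_nonempty (V : Y.Opens) (hV : (V : Set ↥Y).Nonempty) :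
    genericPoint ↥Y ∈ V :=
  ((genericPoint_spec ↥Y).mem_open_set_iff V.isOpen).mpr (by simpa using hV)

/-- Sections over an affine open vanishing at the generic point are nilpotent. -/
theorem isNilpotent_of_evaluation_eq_zero {V : Y.Opens} (hV : IsAffineOpen V)
    (hη : genericPoint ↥Y ∈ V) (a : Γ(Y, V)) (ha : Y.evaluation V _ hη a = 0) : IsNilpotent a := by
  rw [Scheme.evaluation_eq_zero_iff_notMem_basicOpen] at ha
  rw [Scheme.isNilpotent_iff_basicOpen_eq_bot_of_isCompact hV.isCompact]
  by_contra hne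
  apply ha
  apply genericPoint_mem_of_nonempty
  rw [← Opens.not_nonempty_iff_eq_bot, not_not] at hne
  exact hne

/-- The residue field at the generic point consists of fractions of sections over any affine
open. -/
theorem exists_evaluation_mul_eq {V : Y.Opens} (hV : IsAffineOpen V)
    (hη : genericPoint ↥Y ∈ V) (z : Y.residueField (genericPoint ↥Y)) :
    ∃ a b : Γ(Y, V), Y.evaluation V _ hη a ≠ 0 ∧
      z * Y.evaluation V _ hη a = Y.evaluation V _ hη b := by
  obtain ⟨s, rfl⟩ := Y.residue_surjective _ z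
  haveI := hV.isLocalization_stalk ⟨_, hη⟩
  letI := Y.presheaf.algebra_section_stalk ⟨genericPoint ↥Y, hη⟩
  obtain ⟨⟨b, a⟩, hab⟩ := IsLocalization.surj (hV.primeIdealOf ⟨_, hη⟩).asIdeal.primeCompl s
  have halg : ∀ c : Γ(Y, V), algebraMap Γ(Y, V) (Y.presheaf.stalk (genericPoint ↥Y)) c =
      Y.presheaf.germ V _ hη c := fun c => rfl
  refine ⟨a.1, b, ?_, ?_⟩
  · have hu : IsUnit (algebraMap Γ(Y, V) (Y.presheaf.stalk (genericPoint ↥Y)) a.1) :=
      IsLocalization.map_units _ a
    rw [halg] at hu
    have := hu.map (Y.residue (genericPoint ↥Y)).hom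
    exact this.ne_zero
  · simp only at hab
    rw [halg, halg] at hab
    have := congrArg (Y.residue (genericPoint ↥Y)).hom hab
    rw [map_mul] at this
    exact this

end Generic

theorem SpecMap_evaluation_fromSpec {Y : Scheme.{u}} {V : Y.Opens} (hV : IsAffineOpen V) (y : ↥Y)
    (hy : y ∈ V) :
    Spec.map (Y.evaluation V y hy) ≫ hV.fromSpec = Y.fromSpecResidueField y := by
  rw [← Scheme.germ_residue, Spec.map_comp, Category.assoc]
  rw [Scheme.fromSpecResidueField]
  congr 1
  exact hV.fromSpecStalk_eq_fromSpecStalk hy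

/-- Evaluation at a point of `Spec R` as a ring hom from `R`. -/
noncomputable def specEv (R : CommRingCat.{u}) (x : ↥(Spec R)) : R ⟶ (Spec R).residueField x :=
  (Scheme.ΓSpecIso R).inv ≫ (Spec R).evaluation ⊤ x trivial

theorem SpecMap_specEv (R : CommRingCat.{u}) (x : ↥(Spec R)) :
    Spec.map (specEv R x) = (Spec R).fromSpecResidueField x := by
  rw [← Scheme.Spec.map_residueFieldIso_inv_eq_fromSpecResidueField, ← Spec.map_comp,
    Scheme.Spec.algebraMap_residueFieldIso_inv]
  rfl

theorem specEv_eq_zero_iff (R : CommRingCat.{u}) (x : ↥(Spec R)) (r : R) :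
    (specEv R x).hom r = 0 ↔ r ∈ PrimeSpectrum.asIdeal x := by
  haveI : (PrimeSpectrum.asIdeal x).IsPrime := PrimeSpectrum.isPrime x
  have h := Scheme.Spec.algebraMap_residueFieldIso_inv R x
  have h2 : (specEv R x).hom r = (Scheme.Spec.residueFieldIso R x).inv.hom
      (algebraMap R (PrimeSpectrum.asIdeal x).ResidueField r) := by
    have := congrArg (fun f => f.hom r) h
    exact this.symm
  rw [h2, map_eq_zero]
  exact Ideal.algebraMap_residueField_eq_zero

theorem asIdeal_eq_nilradical_of_closure {R : Type u} [CommRing R] (x : PrimeSpectrum R)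
    (h1 : closure {x} = Set.univ) : x.asIdeal = nilradical R := by
  rw [PrimeSpectrum.closure_singleton] at h1
  apply le_antisymm
  · rw [PrimeSpectrum.zeroLocus_eq_univ_iff] at h1
    exact h1
  · exact nilradical_le_prime _

theorem asIdeal_genericPoint (R : CommRingCat.{u}) [IrreducibleSpace ↥(Spec R)] :
    PrimeSpectrum.asIdeal (genericPoint ↥(Spec R)) = nilradical R :=
  asIdeal_eq_nilradical_of_closure _ (genericPoint_spec ↥(Spec R))

/-- Transport of `CompGI` to the fibre of a base change. -/
theorem compGI_fiber_of_square {X Y Y' : Scheme.{u}} (f : X ⟶ Y) (h : Y' ⟶ Y) (y : ↥Y) (y' : ↥Y')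
    {K' : Type u} [Field K'] (k₁ : Spec (CommRingCat.of K') ⟶ Spec (Y.residueField y))
    (b : Spec (Y'.residueField y') ⟶ Spec (CommRingCat.of K'))
    (hb : b ≫ k₁ ≫ Y.fromSpecResidueField y = Y'.fromSpecResidueField y' ≫ h)
    (hc : CompGI (pullback.snd (f.fiberToSpecResidueField y) k₁)) :
    CompGI ((pullback.snd f h).fiberToSpecResidueField y') := by
  let r := Y.fromSpecResidueField y
  let r' := Y'.fromSpecResidueField y'
  let f' := pullback.snd f h
  let s₀ := pullback.snd f r
  have hI : IsPullback (pullback.fst s₀ k₁ ≫ pullback.fst f r) (pullback.snd s₀ k₁) f (k₁ ≫ r) :=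
    (IsPullback.of_hasPullback s₀ k₁).paste_horiz (IsPullback.of_hasPullback f r)
  have hII : IsPullback (pullback.fst f' r' ≫ pullback.fst f h) (pullback.snd f' r') f (r' ≫ h) :=
    (IsPullback.of_hasPullback f' r').paste_horiz (IsPullback.of_hasPullback f h)
  have hw : (pullback.fst f' r' ≫ pullback.fst f h) ≫ f = (pullback.snd f' r' ≫ b) ≫ (k₁ ≫ r) := by
    rw [hII.w, Category.assoc, hb]
  let π := hI.lift (pullback.fst f' r' ≫ pullback.fst f h) (pullback.snd f' r' ≫ b) hw
  have hπ1 : π ≫ (pullback.fst s₀ k₁ ≫ pullback.fst f r) = pullback.fst f' r' ≫ pullback.fst f h :=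
    hI.lift_fst _ _ _
  have hπ2 : π ≫ pullback.snd s₀ k₁ = pullback.snd f' r' ≫ b := hI.lift_snd _ _ _
  have hsq : IsPullback π (pullback.snd f' r') (pullback.snd s₀ k₁) b := by
    refine IsPullback.of_right ?_ hπ2 hI
    rw [hπ1, hb]
    exact hII
  exact CompGI.of_isPullback hc hsq

end Groth.Agent.H8.GC
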