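import Mathlib
import Groth.Agent.H8.GC.ConnPieces
import Groth.Agent.H8.GC.Spread

/-!
# Core: flat finite type morphism whose generic fibre is geometrically connected with
geometrically irreducible components (helper8)
-/

set_option autoImplicit false
set_option linter.style.haveILetI false
set_option linter.unusedSectionVars false

open CategoryTheory AlgebraicGeometry Limits TopologicalSpace

namespace Groth.Agent.H8.GC

universe u

/-- The statement of S0419, as a hypothesis. -/
def H419 : Prop :=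
  ∀ {X Y : Scheme.{u}} (f : X ⟶ Y) [IrreducibleSpace ↥Y] [LocallyOfFiniteType f] [QuasiCompact f],
    GeometricallyIrreducible (f.fiberToSpecResidueField (genericPoint ↥Y)) →
    ∃ V : Y.Opens, (V : Set ↥Y).Nonempty ∧ GeometricallyIrreducible (f ∣_ V)

theorem finite_irreducibleComponents_fiber {X Y : Scheme.{u}} (f : X ⟶ Y) [LocallyOfFiniteType f]
    [QuasiCompact f] (y : ↥Y) : (irreducibleComponents ↥(f.fiber y)).Finite := by
  have hlft : LocallyOfFiniteType (f.fiberToSpecResidueField y) :=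
    inferInstanceAs (LocallyOfFiniteType (pullback.snd f (Y.fromSpecResidueField y)))
  have : IsLocallyNoetherian (f.fiber y) :=
    LocallyOfFiniteType.isLocallyNoetherian (f.fiberToSpecResidueField y)
  have : IsNoetherian (f.fiber y) := {}
  exact TopologicalSpace.NoetherianSpace.finite_irreducibleComponents

theorem hasConnOpen_of_flat_of_compGI (H : H419.{u}) {X Y : Scheme.{u}} (f : X ⟶ Y)
    [IrreducibleSpace ↥Y] [Flat f] [LocallyOfFiniteType f] [QuasiCompact f]
    (hconn : GeometricallyConnected (f.fiberToSpecResidueField (genericPoint ↥Y)))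
    (hgi : CompGI (f.fiberToSpecResidueField (genericPoint ↥Y))) :
    HasConnOpen f := by
  classical
  haveI : Finite ↥(irreducibleComponents ↥(f.fiber (genericPoint ↥Y))) :=
    (finite_irreducibleComponents_fiber f _).to_subtype
  haveI : ConnectedSpace ↥(f.fiber (genericPoint ↥Y)) :=
    GeometricallyConnected.connectedSpace_of_subsingleton
      (f.fiberToSpecResidueField (genericPoint ↥Y))
  haveI : Nonempty ↥(irreducibleComponents ↥(f.fiber (genericPoint ↥Y))) := by
    obtain ⟨z⟩ := (inferInstance : Nonempty ↥(f.fiber (genericPoint ↥Y)))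
    obtain ⟨Z, hZ, -⟩ := exists_mem_irreducibleComponents_subset_of_isIrreducible
      ({z} : Set ↥(f.fiber (genericPoint ↥Y))) isIrreducible_singleton
    exact ⟨⟨Z, hZ⟩⟩
  -- the closures of the components
  let C : ↥(irreducibleComponents ↥(f.fiber (genericPoint ↥Y))) → Set ↥X :=
    fun Z => closure (f.fiberι (genericPoint ↥Y) '' Z.1)
  have hCcl : ∀ Z, IsClosed (C Z) := fun Z => isClosed_closure
  -- (d) opens where the closures have geometrically irreducible fibres
  have hd : ∀ Z : ↥(irreducibleComponents ↥(f.fiber (genericPoint ↥Y))),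
      ∃ V : Y.Opens, (V : Set ↥Y).Nonempty ∧
        ∀ (K : Type u) [Field K] (q : Spec (CommRingCat.of K) ⟶ Y), Set.range q ⊆ (V : Set ↥Y) →
          IsIrreducible (⇑(pullback.fst f q) ⁻¹' C Z) := by
    intro Z
    let I := Scheme.IdealSheafData.vanishingIdeal ⟨C Z, hCcl Z⟩
    let j : I.subscheme ⟶ X := I.subschemeι
    have hj : Set.range j = C Z := by
      rw [Scheme.IdealSheafData.range_subschemeι,
        Scheme.IdealSheafData.coe_support_vanishingIdeal]
      rfl
    have hc : GeometricallyIrreducible ((j ≫ f).fiberToSpecResidueField (genericPoint ↥Y)) :=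
      geometricallyIrreducible_fiber_of_closure f _ hgi Z.1 Z.2 j hj
    obtain ⟨V, hne, hV⟩ := H (j ≫ f) hc
    refine ⟨V, hne, ?_⟩
    intro K _ q hq
    haveI : IrreducibleSpace ↥(pullback (j ≫ f) q) :=
      pullback_of_geometrically_restrict (P := (IrreducibleSpace ·)) (j ≫ f) V
        hV.geometrically_irreducibleSpace q hq
    rw [← hj, ← range_bcHom j f q, ← Set.image_univ]
    exact (IrreducibleSpace.isIrreducible_univ _).image _ (bcHom j f q).continuous.continuousOn
  choose VZ hVZne hVZ using hd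
  -- (e) opens over which adjacent closures meet
  have he : ∀ Z Z' : ↥(irreducibleComponents ↥(f.fiber (genericPoint ↥Y))),
      ∃ V : Y.Opens, (V : Set ↥Y).Nonempty ∧
        ((Z.1 ∩ Z'.1).Nonempty → (V : Set ↥Y) ⊆ f '' (C Z ∩ C Z')) := by
    intro Z Z'
    by_cases hZZ : (Z.1 ∩ Z'.1).Nonempty
    · obtain ⟨z, hz, hz'⟩ := hZZ
      obtain ⟨V, hne, hV⟩ := exists_open_subset_image_closed f (C Z ∩ C Z')
        ((hCcl Z).inter (hCcl Z')) ⟨f.fiberι _ z, ⟨subset_closure ⟨z, hz, rfl⟩,
          subset_closure ⟨z, hz', rfl⟩⟩, fiberι_mem f _ z⟩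
      exact ⟨V, hne, fun _ => hV⟩
    · exact ⟨⊤, ⟨genericPoint ↥Y, trivial⟩, fun h => absurd h hZZ⟩
  choose VZZ hVZZne hVZZ using he
  -- the open
  let V : Set ↥Y := (⋂ Z, (VZ Z : Set ↥Y)) ∩ ⋂ Z, ⋂ Z', (VZZ Z Z' : Set ↥Y)
  have hVo : IsOpen V :=
    (isOpen_iInter_of_finite fun Z => (VZ Z).isOpen).inter
      (isOpen_iInter_of_finite fun Z => isOpen_iInter_of_finite fun Z' => (VZZ Z Z').isOpen)
  have hVη : genericPoint ↥Y ∈ V := by
    refine ⟨Set.mem_iInter.mpr fun Z => genericPoint_mem_of_nonempty _ (hVZne Z),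
      Set.mem_iInter.mpr fun Z => Set.mem_iInter.mpr fun Z' =>
        genericPoint_mem_of_nonempty _ (hVZZne Z Z')⟩
  refine ⟨⟨V, hVo⟩, ⟨_, hVη⟩, GeomConnOver.subset_Econn ?_⟩
  intro K _ q hq
  -- the cover of the pullback
  let G : ↥(irreducibleComponents ↥(f.fiber (genericPoint ↥Y))) → Set ↥(pullback f q) :=
    fun Z => ⇑(pullback.fst f q) ⁻¹' C Z
  have hGconn : ∀ Z, _root_.IsConnected (G Z) := fun Z =>
    (hVZ Z K q (hq.trans (fun v hv => Set.mem_iInter.mp hv.1 Z))).isConnected
  have hGcov : ⋃ Z, G Z = Set.univ := by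
    rw [Set.eq_univ_iff_forall]
    intro g
    obtain ⟨Z, hZ, hx⟩ := exists_mem_closure_image_component f (pullback.fst f q g)
    exact Set.mem_iUnion.mpr ⟨⟨Z, hZ⟩, hx⟩
  have hadj : ∀ Z Z' : ↥(irreducibleComponents ↥(f.fiber (genericPoint ↥Y))),
      (Z.1 ∩ Z'.1).Nonempty → (G Z ∩ G Z').Nonempty := by
    intro Z Z' hZZ
    -- the image point of `q`
    obtain ⟨pt⟩ := (inferInstance : Nonempty ↥(Spec (CommRingCat.of K)))
    have hyV : q pt ∈ V := hq ⟨pt, rfl⟩
    have hy2 : q pt ∈ (VZZ Z Z' : Set ↥Y) := Set.mem_iInter.mp (Set.mem_iInter.mp hyV.2 Z) Z'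
    obtain ⟨x, hxC, hx⟩ := hVZZ Z Z' hZZ hy2
    have hxr : x ∈ Set.range (pullback.fst f q) := by
      rw [Scheme.Pullback.range_fst]
      exact ⟨pt, hx.symm⟩
    obtain ⟨g, rfl⟩ := hxr
    exact ⟨g, hxC.1, hxC.2⟩
  have hgraph : ∀ Z Z' : ↥(irreducibleComponents ↥(f.fiber (genericPoint ↥Y))),
      Relation.ReflTransGen (fun a b => (G a ∩ G b).Nonempty) Z Z' := by
    intro Z Z'
    have h0 := reflTransGen_of_finite_closed_cover
      (fun Z : ↥(irreducibleComponents ↥(f.fiber (genericPoint ↥Y))) => Z.1)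
      (fun Z => isClosed_of_mem_irreducibleComponents Z.1 Z.2)
      (fun Z => Z.2.1.nonempty)
      (by
        rw [Set.eq_univ_iff_forall]
        intro z
        obtain ⟨Z, hZ, hzZ⟩ := exists_mem_irreducibleComponents_subset_of_isIrreducible
          ({z} : Set ↥(f.fiber (genericPoint ↥Y))) isIrreducible_singleton
        exact Set.mem_iUnion.mpr ⟨⟨Z, hZ⟩, hzZ rfl⟩) Z Z'
    exact Relation.ReflTransGen.mono (fun a b hab => hadj a b hab) Z Z' h0
  exact connectedSpace_of_cover G hGconn hGcov hgraph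

end Groth.Agent.H8.GC
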