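import Mathlib
import Groth.Agent.H8.GC.RingGen

/-!
# Packaged ring-level statements for the finite étale spreading-out (helper8)
-/

set_option autoImplicit false
set_option linter.style.haveILetI false
set_option linter.unusedSectionVars false

open Polynomial

namespace Groth.Agent.H8.GC

universe u v w

theorem exists_forall_mem_lifts₃ {A : Type u} {K : Type v} [CommRing A] [Field K] (φ : A →+* K)
    (h2 : ∀ z : K, ∃ a b : A, φ a ≠ 0 ∧ z * φ a = φ b) (p c d : K[X]) :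
    ∃ a : A, φ a ≠ 0 ∧ ∀ {A' : Type w} [CommRing A'] (ι : A →+* A') (φ' : A' →+* K),
      φ'.comp ι = φ → IsUnit (ι a) →
        p ∈ Polynomial.lifts φ' ∧ c ∈ Polynomial.lifts φ' ∧ d ∈ Polynomial.lifts φ' := by
  obtain ⟨a₁, ha₁, H₁⟩ := exists_forall_mem_lifts.{u, v, w} φ h2 p
  obtain ⟨a₂, ha₂, H₂⟩ := exists_forall_mem_lifts.{u, v, w} φ h2 c
  obtain ⟨a₃, ha₃, H₃⟩ := exists_forall_mem_lifts.{u, v, w} φ h2 d
  refine ⟨a₁ * a₂ * a₃, ?_, ?_⟩
  · rw [map_mul, map_mul]; exact mul_ne_zero (mul_ne_zero ha₁ ha₂) ha₃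
  · intro A' _ ι φ' hcomp hunit
    rw [map_mul, map_mul] at hunit
    exact ⟨H₁ ι φ' hcomp (isUnit_of_mul_isUnit_left (isUnit_of_mul_isUnit_left hunit)),
      H₂ ι φ' hcomp (isUnit_of_mul_isUnit_right (isUnit_of_mul_isUnit_left hunit)),
      H₃ ι φ' hcomp (isUnit_of_mul_isUnit_right hunit)⟩

/-- The finite étale algebra realizing `K[X]/(P)` over `A'`. -/
theorem exists_finite_etale_algebra {A' : Type u} {K : Type v} [CommRing A'] [Field K]
    (φ' : A' →+* K) (h1 : ∀ a, φ' a = 0 → IsNilpotent a)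
    (h2 : ∀ z : K, ∃ a b : A', φ' a ≠ 0 ∧ z * φ' a = φ' b)
    (P : K[X]) (hP : P.Monic) (hirr : Irreducible P)
    (hPl : P ∈ Polynomial.lifts φ') (c d : K[X]) (hc : c ∈ Polynomial.lifts φ')
    (hd : d ∈ Polynomial.lifts φ') (hcd : c * P + d * derivative P = 1) :
    ∃ (B : Type u) (_ : CommRing B) (_ : Algebra A' B), Module.Finite A' B ∧ Module.Free A' B ∧
      Nontrivial B ∧ Algebra.Etale A' B ∧ (nilradical B).IsPrime ∧
      ∃ ψ : B →+* AdjoinRoot P, (∀ b, ψ b = 0 ↔ b ∈ nilradical B) ∧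
        (∀ z : AdjoinRoot P, ∃ b c : B, ψ c ≠ 0 ∧ z * ψ c = ψ b) ∧
        ψ.comp (algebraMap A' B) = (AdjoinRoot.of P).comp φ' := by
  obtain ⟨Q, hQmon, hQP, -, hQsep⟩ := exists_monic_separable_lift φ' h1 P hP hPl c d hc hd hcd
  subst hQP
  haveI : Fact (Irreducible (Q.map φ')) := ⟨hirr⟩
  refine ⟨AdjoinRoot Q, inferInstance, inferInstance, hQmon.finite_adjoinRoot,
    hQmon.free_adjoinRoot, (psi φ' Q).domain_nontrivial,
    etale_adjoinRoot_of_monic_of_separable Q hQmon hQsep,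
    isPrime_nilradical_adjoinRoot φ' Q h1 hQmon, psi φ' Q, ?_, exists_psi_mul_eq φ' Q h2, ?_⟩
  · intro b
    rw [← ker_psi_eq_nilradical φ' Q h1 hQmon, RingHom.mem_ker]
  · rw [AdjoinRoot.algebraMap_eq]
    exact psi_comp_of φ' Q

end Groth.Agent.H8.GC
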