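import Mathlib
import Groth.Agent.H8.GC.Spread
import Groth.Agent.H8.GC.RingPack

/-!
# Realizing a finite separable extension of the function field by a finite étale cover (helper8)
-/

set_option autoImplicit false
set_option linter.style.haveILetI false
set_option linter.unusedSectionVars false

open CategoryTheory AlgebraicGeometry Limits TopologicalSpace Polynomial

namespace Groth.Agent.H8.GC

universe u

theorem exists_cover_of_algebra {Y : Scheme.{u}} [IrreducibleSpace ↥Y] {V : Y.Opens}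
    (hV : IsAffineOpen V) (hηV : genericPoint ↥Y ∈ V) (B : Type u) [CommRing B]
    [Algebra Γ(Y, V) B] [Module.Finite Γ(Y, V) B] [Module.Free Γ(Y, V) B] [Nontrivial B]
    [Algebra.Etale Γ(Y, V) B] (hnil : (nilradical B).IsPrime) {K' : Type u} [Field K']
    (ψ : B →+* K') (hker : ∀ b, ψ b = 0 ↔ b ∈ nilradical B)
    (hfrac : ∀ z : K', ∃ b c : B, ψ c ≠ 0 ∧ z * ψ c = ψ b)
    (θ : Y.residueField (genericPoint ↥Y) →+* K')
    (hθ : ψ.comp (algebraMap Γ(Y, V) B) = θ.comp (Y.evaluation V _ hηV).hom) :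
    ∃ (Y' : Scheme.{u}) (g : Y' ⟶ (V : Scheme.{u})) (_ : IrreducibleSpace ↥Y'),
      IsAffine Y' ∧ Surjective g ∧ IsFinite g ∧ Etale g ∧
      ∃ β : K' →+* Y'.residueField (genericPoint ↥Y'),
        Spec.map (CommRingCat.ofHom (β.comp θ)) ≫ Y.fromSpecResidueField (genericPoint ↥Y) =
          Y'.fromSpecResidueField (genericPoint ↥Y') ≫ g ≫ V.ι := by
  let g₀ : Spec (CommRingCat.of B) ⟶ Spec Γ(Y, V) :=
    Spec.map (CommRingCat.ofHom (algebraMap Γ(Y, V) B))
  have hY' : IrreducibleSpace ↥(Spec (CommRingCat.of B)) :=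
    PrimeSpectrum.irreducibleSpace_iff_isPrime_nilradical.mpr hnil
  have hsurj : Surjective g₀ := by
    constructor
    exact PrimeSpectrum.comap_surjective_of_faithfullyFlat (A := Γ(Y, V)) (B := B)
  have hfin : IsFinite g₀ := by
    rw [IsFinite.SpecMap_iff]
    exact RingHom.finite_algebraMap.mpr inferInstance
  have het : Etale g₀ := by
    rw [HasRingHomProperty.Spec_iff (P := @Etale)]
    exact RingHom.etale_algebraMap.mpr inferInstance
  refine ⟨Spec (CommRingCat.of B), g₀ ≫ hV.isoSpec.inv, hY', inferInstance, inferInstance,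
    inferInstance, inferInstance, ?_⟩
  let η' := genericPoint ↥(Spec (CommRingCat.of B))
  let ev : B →+* (Spec (CommRingCat.of B)).residueField η' := (specEv (CommRingCat.of B) η').hom
  have hk : ∀ b, ψ b = 0 ↔ ev b = 0 := by
    intro b
    rw [hker, specEv_eq_zero_iff, asIdeal_genericPoint]
  obtain ⟨β, hβ⟩ := exists_ringHom_comp_eq ψ ev hk hfrac
  refine ⟨β, ?_⟩
  rw [← SpecMap_evaluation_fromSpec hV _ hηV, ← SpecMap_specEv, Category.assoc,
    hV.isoSpec_inv_ι, ← Spec.map_comp_assoc, ← Spec.map_comp_assoc]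
  congr 2
  ext x
  have h1 := congrArg (fun F => F x) hθ
  have h2 := congrArg (fun F => F (algebraMap Γ(Y, V) B x)) hβ
  simp only [RingHom.comp_apply] at h1 h2
  show β (θ ((Y.evaluation V _ hηV).hom x)) = ev (algebraMap Γ(Y, V) B x)
  rw [← h1, h2]

end Groth.Agent.H8.GC

namespace Groth.Agent.H8.GC

universe u

/-- Let `Y` be an irreducible scheme with generic point `η` and let `P` be a monic irreducible
separable polynomial over `κ(η)`.  There are a nonempty open `V` of `Y`, a finite étale surjective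
`g : Y' ⟶ V` with `Y'` affine irreducible and an embedding of `κ(η)[X]/(P)` into the residue field
at the generic point of `Y'`, compatible with the maps to `Y`. -/
theorem exists_finite_etale_cover_of_separable {Y : Scheme.{u}} [IrreducibleSpace ↥Y]
    (P : (Y.residueField (genericPoint ↥Y))[X]) (hP : P.Monic) (hirr : Irreducible P)
    (hsep : P.Separable) :
    ∃ (V : Y.Opens) (Y' : Scheme.{u}) (g : Y' ⟶ (V : Scheme.{u})) (_ : IrreducibleSpace ↥Y'),
      (V : Set ↥Y).Nonempty ∧ IsAffine Y' ∧ Surjective g ∧ IsFinite g ∧ Etale g ∧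
      ∃ β : AdjoinRoot P →+* Y'.residueField (genericPoint ↥Y'),
        Spec.map (CommRingCat.ofHom (β.comp (AdjoinRoot.of P))) ≫
            Y.fromSpecResidueField (genericPoint ↥Y) =
          Y'.fromSpecResidueField (genericPoint ↥Y') ≫ g ≫ V.ι := by
  obtain ⟨W, hW, hηW, -⟩ :=
    exists_isAffineOpen_mem_and_subset (x := genericPoint ↥Y) (U := ⊤) trivial
  obtain ⟨c, d, hcd⟩ := hsep
  obtain ⟨a, hφa, H⟩ := exists_forall_mem_lifts₃.{u, u, u} (Y.evaluation W _ hηW).hom
    (exists_evaluation_mul_eq hW hηW) P c d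
  have hV : IsAffineOpen (Y.basicOpen a) := hW.basicOpen a
  have hηV : genericPoint ↥Y ∈ Y.basicOpen a :=
    (Y.evaluation_ne_zero_iff_mem_basicOpen _ hηW a).mp hφa
  have hcomp : (Y.evaluation (Y.basicOpen a) _ hηV).hom.comp
      (Y.presheaf.map (homOfLE (Y.basicOpen_le a)).op).hom = (Y.evaluation W _ hηW).hom := by
    ext x
    show (Y.presheaf.map (homOfLE (Y.basicOpen_le a)).op ≫ Y.presheaf.germ _ _ hηV ≫
      Y.residue _).hom x = _
    rw [← Category.assoc, Y.presheaf.germ_res]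
    rfl
  have hunit : IsUnit ((Y.presheaf.map (homOfLE (Y.basicOpen_le a)).op).hom a) :=
    Y.toRingedSpace.isUnit_res_basicOpen a
  obtain ⟨hPl, hcl, hdl⟩ := H _ _ hcomp hunit
  obtain ⟨B, _, _, hfin, hfree, hnt, het, hnil, ψ, hker, hfrac, hθ⟩ :=
    exists_finite_etale_algebra (Y.evaluation (Y.basicOpen a) _ hηV).hom
      (isNilpotent_of_evaluation_eq_zero hV hηV) (exists_evaluation_mul_eq hV hηV)
      P hP hirr hPl c d hcl hdl hcd
  haveI : Fact (Irreducible P) := ⟨hirr⟩
  obtain ⟨Y', g, hY', h1, h2, h3, h4, β, hβ⟩ :=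
    exists_cover_of_algebra hV hηV B hnil ψ hker hfrac (AdjoinRoot.of P) hθ
  exact ⟨Y.basicOpen a, Y', g, hY', ⟨_, hηV⟩, h1, h2, h3, h4, β, hβ⟩

end Groth.Agent.H8.GC
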