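import Mathlib
import Groth.Agent.H8.GC.Cover
import Groth.Agent.H8.GC.ConnCore

/-!
# A finite étale cover over which the components of the generic fibre are geometrically
irreducible — `CompGI` form (helper8)
-/

set_option autoImplicit false
set_option linter.style.haveILetI false
set_option linter.unusedSectionVars false

open CategoryTheory AlgebraicGeometry Limits TopologicalSpace

namespace Groth.Agent.H8.GC

universe u

theorem exists_cover_compGI {X Y : Scheme.{u}} (f : X ⟶ Y) [IrreducibleSpace ↥Y]
    [LocallyOfFiniteType f] [QuasiCompact f] :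
    ∃ (V : Y.Opens) (Y' : Scheme.{u}) (g : Y' ⟶ (V : Scheme.{u})) (_ : IrreducibleSpace ↥Y'),
      (V : Set ↥Y).Nonempty ∧ IsAffine Y' ∧ Surjective g ∧ IsFinite g ∧ Etale g ∧
      CompGI ((pullback.snd f (g ≫ V.ι)).fiberToSpecResidueField (genericPoint ↥Y')) := by
  classical
  have hlft : LocallyOfFiniteType (f.fiberToSpecResidueField (genericPoint ↥Y)) :=
    inferInstanceAs
      (LocallyOfFiniteType (pullback.snd f (Y.fromSpecResidueField (genericPoint ↥Y))))
  have hirr : (irreducibleComponents ↥(f.fiber (genericPoint ↥Y))).Finite :=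
    finite_irreducibleComponents_fiber f _
  obtain ⟨K', _, _, hfd, hsep, hc⟩ := exists_finite_separable_compGI
    (k := Y.residueField (genericPoint ↥Y)) (f.fiberToSpecResidueField (genericPoint ↥Y)) hirr
  obtain ⟨α, hα⟩ := Field.exists_primitive_element (Y.residueField (genericPoint ↥Y)) K'
  have hint : IsIntegral (Y.residueField (genericPoint ↥Y)) α := Algebra.IsIntegral.isIntegral α
  let e' : AdjoinRoot (minpoly (Y.residueField (genericPoint ↥Y)) α)
      ≃ₐ[Y.residueField (genericPoint ↥Y)] K' :=
    (IntermediateField.adjoinRootEquivAdjoin (Y.residueField (genericPoint ↥Y)) hint).trans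
      ((IntermediateField.equivOfEq hα).trans IntermediateField.topEquiv)
  obtain ⟨V, Y', g, hY', hne, haff, hsurj, hfin, het, β, hβ⟩ :=
    exists_finite_etale_cover_of_separable
      (minpoly (Y.residueField (genericPoint ↥Y)) α) (minpoly.monic hint)
      (minpoly.irreducible hint) (Algebra.IsSeparable.isSeparable _ α)
  refine ⟨V, Y', g, hY', hne, haff, hsurj, hfin, het, ?_⟩
  have hb : Spec.map (CommRingCat.ofHom (β.comp (e'.symm : K' →+* _))) ≫
      Spec.map (CommRingCat.ofHom (algebraMap (Y.residueField (genericPoint ↥Y)) K')) ≫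
        Y.fromSpecResidueField (genericPoint ↥Y) =
      Y'.fromSpecResidueField (genericPoint ↥Y') ≫ g ≫ V.ι := by
    rw [← hβ, ← Spec.map_comp_assoc]
    congr 2
    ext x
    show β (e'.symm (algebraMap _ K' x)) = β (AdjoinRoot.of _ x)
    rw [AlgEquiv.commutes, AdjoinRoot.algebraMap_eq]
  exact compGI_fiber_of_square f (g ≫ V.ι) (genericPoint ↥Y) (genericPoint ↥Y') _ _ hb hc

end Groth.Agent.H8.GC
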