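import Mathlib
import Groth.Agent.Lib.Helper50.GeomConnComp
import Groth.Agent.H8.GC.CoverGI

/-!
# "All connected components are geometrically connected" (helper8)

Topological formulation `CompGC s`, stability under base change, existence after a finite
separable extension (helper50), and the finite étale cover realizing it.
-/

set_option autoImplicit false
set_option linter.style.haveILetI false
set_option linter.unusedSectionVars false

open CategoryTheory AlgebraicGeometry Limits TopologicalSpace

namespace Groth.Agent.H8.GC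

universe u

/-- Every connected component of `F` has connected preimage in every base change of
`s : F ⟶ S` to the spectrum of a field. -/
def CompGC {F S : Scheme.{u}} (s : F ⟶ S) : Prop :=
  ∀ x : ↥F, ∀ ⦃K : Type u⦄ [Field K] (y : Spec (CommRingCat.of K) ⟶ S)
    ⦃T : Scheme.{u}⦄ (fst : T ⟶ F) (snd : T ⟶ Spec (CommRingCat.of K)),
    IsPullback fst snd s y → _root_.IsConnected (⇑fst ⁻¹' connectedComponent x)

theorem isConnected_preimage_of_isIso {X Y : Scheme.{u}} (e : X ⟶ Y) [IsIso e] {S : Set Y}
    (hS : _root_.IsConnected S) : _root_.IsConnected (⇑e ⁻¹' S) := by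
  have : ⇑e ⁻¹' S = ⇑(inv e) '' S := by
    ext x
    constructor
    · intro hx
      refine ⟨e x, hx, ?_⟩
      rw [← Scheme.Hom.comp_apply, IsIso.hom_inv_id]; rfl
    · rintro ⟨y, hy, rfl⟩
      show e ((inv e) y) ∈ S
      rw [← Scheme.Hom.comp_apply, IsIso.inv_hom_id]
      exact hy
  rw [this]
  exact hS.image _ (inv e).continuous.continuousOn

theorem CompGC.of_isPullback {F₁ F₂ S₁ : Scheme.{u}} {L₂ : Type u} [Field L₂] {s₁ : F₁ ⟶ S₁}
    {s₂ : F₂ ⟶ Spec (CommRingCat.of L₂)} {π : F₂ ⟶ F₁} {b : Spec (CommRingCat.of L₂) ⟶ S₁}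
    (h₁ : CompGC s₁) (hp : IsPullback π s₂ s₁ b) : CompGC s₂ := by
  intro x₂ K _ y T fst snd hT
  have hpre : _root_.IsConnected (⇑π ⁻¹' connectedComponent (π x₂)) := h₁ (π x₂) b π s₂ hp
  have heq : connectedComponent x₂ = ⇑π ⁻¹' connectedComponent (π x₂) := by
    apply Set.Subset.antisymm
    · intro z hz
      have himg : _root_.IsPreconnected (⇑π '' connectedComponent x₂) :=
        isPreconnected_connectedComponent.image _ π.continuous.continuousOn
      exact himg.subset_connectedComponent ⟨x₂, mem_connectedComponent, rfl⟩ ⟨z, hz, rfl⟩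
    · exact hpre.isPreconnected.subset_connectedComponent
        (show x₂ ∈ ⇑π ⁻¹' connectedComponent (π x₂) from mem_connectedComponent)
  have hpaste : IsPullback (fst ≫ π) snd s₁ (y ≫ b) := hT.paste_horiz hp
  have := h₁ (π x₂) (y ≫ b) (fst ≫ π) snd hpaste
  rw [heq]
  exact this

theorem finite_connectedComponents_of_finite_irreducibleComponents {T : Type*} [TopologicalSpace T]
    (h : (irreducibleComponents T).Finite) : Finite (_root_.ConnectedComponents T) := by
  haveI : Finite ↥(irreducibleComponents T) := h.to_subtype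
  let φ : ↥(irreducibleComponents T) → _root_.ConnectedComponents T :=
    fun Z => _root_.ConnectedComponents.mk Z.2.1.1.some
  refine Finite.of_surjective φ ?_
  intro q
  obtain ⟨y, rfl⟩ := _root_.ConnectedComponents.surjective_coe q
  refine ⟨⟨irreducibleComponent y, irreducibleComponent_mem_irreducibleComponents y⟩, ?_⟩
  show _root_.ConnectedComponents.mk _ = _root_.ConnectedComponents.mk y
  rw [_root_.ConnectedComponents.coe_eq_coe']
  exact (IsPreirreducible.isPreconnected
    (irreducibleComponent_mem_irreducibleComponents y).1.2).subset_connectedComponent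
    mem_irreducibleComponent (irreducibleComponent_mem_irreducibleComponents y).1.1.some_mem

theorem finite_connectedComponents_fiber {X Y : Scheme.{u}} (f : X ⟶ Y) [LocallyOfFiniteType f]
    [QuasiCompact f] (y : ↥Y) : Finite (_root_.ConnectedComponents ↥(f.fiber y)) :=
  finite_connectedComponents_of_finite_irreducibleComponents
    (finite_irreducibleComponents_fiber f y)

theorem exists_finite_separable_compGC {k : Type u} [Field k] {X : Scheme.{u}}
    (f : X ⟶ Spec (CommRingCat.of k)) [LocallyOfFiniteType f]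
    [Finite (_root_.ConnectedComponents ↥X)] :
    ∃ (k' : Type u) (_ : Field k') (_ : Algebra k k'), FiniteDimensional k k' ∧
      Algebra.IsSeparable k k' ∧
      CompGC (pullback.snd f (Spec.map (CommRingCat.ofHom (algebraMap k k')))) := by
  obtain ⟨L, hF, hA, hfd, hsep, hL⟩ := Groth.Agent.Lib.Helper50.exists_finite_separable_geomConn f (by
    intro c
    obtain ⟨x, rfl⟩ := _root_.ConnectedComponents.surjective_coe c
    obtain ⟨φ, hφ⟩ := Groth.Agent.Lib.Helper50.exists_ringHom_residueField f x
    refine ⟨x, φ, rfl, hφ, ?_⟩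
    letI := φ.toAlgebra
    haveI : Algebra.EssFiniteType k (X.residueField x) :=
      Groth.Agent.Lib.Helper50.essFiniteType_residueField f x φ hφ
    exact Groth.Agent.Lib.Helper50.finiteDimensional_separableClosure_of_essFiniteType k
      (X.residueField x))
  refine ⟨L, hF, hA, hfd, hsep, ?_⟩
  intro x K _ y T fst snd hT
  obtain ⟨φ, rfl⟩ := Spec.map_surjective y
  letI : Algebra L K := φ.hom.toAlgebra
  have h0 := hL K x
  have hy : Spec.map φ = Spec.map (CommRingCat.ofHom (algebraMap L K)) := rfl
  rw [hy] at hT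
  have hfst : fst = hT.isoPullback.hom ≫ pullback.fst _ _ := by simp
  rw [hfst, Scheme.Hom.comp_base, TopCat.coe_comp, Set.preimage_comp]
  exact isConnected_preimage_of_isIso _ h0

/-- Transport of `CompGC` to the fibre of a base change. -/
theorem compGC_fiber_of_square {X Y Y' : Scheme.{u}} (f : X ⟶ Y) (h : Y' ⟶ Y) (y : ↥Y) (y' : ↥Y')
    {K' : Type u} [Field K'] (k₁ : Spec (CommRingCat.of K') ⟶ Spec (Y.residueField y))
    (b : Spec (Y'.residueField y') ⟶ Spec (CommRingCat.of K'))
    (hb : b ≫ k₁ ≫ Y.fromSpecResidueField y = Y'.fromSpecResidueField y' ≫ h)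
    (hc : CompGC (pullback.snd (f.fiberToSpecResidueField y) k₁)) :
    CompGC ((pullback.snd f h).fiberToSpecResidueField y') := by
  let r := Y.fromSpecResidueField y
  let r' := Y'.fromSpecResidueField y'
  let f' := pullback.snd f h
  let s₀ := pullback.snd f r
  have hI : IsPullback (pullback.fst s₀ k₁ ≫ pullback.fst f r) (pullback.snd s₀ k₁) f (k₁ ≫ r) :=
    (IsPullback.of_hasPullback s₀ k₁).paste_horiz (IsPullback.of_hasPullback f r)
  have hII : IsPullback (pullback.fst f' r' ≫ pullback.fst f h) (pullback.snd f' r') f (r' ≫ h) :=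
    (IsPullback.of_hasPullback f' r').paste_horiz (IsPullback.of_hasPullback f h)
  have hw : (pullback.fst f' r' ≫ pullback.fst f h) ≫ f = (pullback.snd f' r' ≫ b) ≫ (k₁ ≫ r) := by
    rw [hII.w, Category.assoc, hb]
  let π := hI.lift (pullback.fst f' r' ≫ pullback.fst f h) (pullback.snd f' r' ≫ b) hw
  have hπ1 : π ≫ (pullback.fst s₀ k₁ ≫ pullback.fst f r) = pullback.fst f' r' ≫ pullback.fst f h :=
    hI.lift_fst _ _ _
  have hπ2 : π ≫ pullback.snd s₀ k₁ = pullback.snd f' r' ≫ b := hI.lift_snd _ _ _
  have hsq : IsPullback π (pullback.snd f' r') (pullback.snd s₀ k₁) b := by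
    refine IsPullback.of_right ?_ hπ2 hI
    rw [hπ1, hb]
    exact hII
  exact CompGC.of_isPullback hc hsq

theorem exists_cover_compGC {X Y : Scheme.{u}} (f : X ⟶ Y) [IrreducibleSpace ↥Y]
    [LocallyOfFiniteType f] [QuasiCompact f] :
    ∃ (V : Y.Opens) (Y' : Scheme.{u}) (g : Y' ⟶ (V : Scheme.{u})) (_ : IrreducibleSpace ↥Y'),
      (V : Set ↥Y).Nonempty ∧ IsAffine Y' ∧ Surjective g ∧ IsFinite g ∧ Etale g ∧
      CompGC ((pullback.snd f (g ≫ V.ι)).fiberToSpecResidueField (genericPoint ↥Y')) := by
  classical
  have hlft : LocallyOfFiniteType (f.fiberToSpecResidueField (genericPoint ↥Y)) :=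
    inferInstanceAs
      (LocallyOfFiniteType (pullback.snd f (Y.fromSpecResidueField (genericPoint ↥Y))))
  haveI := finite_connectedComponents_fiber f (genericPoint ↥Y)
  obtain ⟨K', _, _, hfd, hsep, hc⟩ := exists_finite_separable_compGC
    (k := Y.residueField (genericPoint ↥Y)) (f.fiberToSpecResidueField (genericPoint ↥Y))
  obtain ⟨α, hα⟩ := Field.exists_primitive_element (Y.residueField (genericPoint ↥Y)) K'
  have hint : IsIntegral (Y.residueField (genericPoint ↥Y)) α := Algebra.IsIntegral.isIntegral α
  let e' : AdjoinRoot (minpoly (Y.residueField (genericPoint ↥Y)) α)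
      ≃ₐ[Y.residueField (genericPoint ↥Y)] K' :=
    (IntermediateField.adjoinRootEquivAdjoin (Y.residueField (genericPoint ↥Y)) hint).trans
      ((IntermediateField.equivOfEq hα).trans IntermediateField.topEquiv)
  obtain ⟨V, Y', g, hY', hne, haff, hsurj, hfin, het, β, hβ⟩ :=
    exists_finite_etale_cover_of_separable
      (minpoly (Y.residueField (genericPoint ↥Y)) α) (minpoly.monic hint)
      (minpoly.irreducible hint) (Algebra.IsSeparable.isSeparable _ α)
  refine ⟨V, Y', g, hY', hne, haff, hsurj, hfin, het, ?_⟩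
  have hb : Spec.map (CommRingCat.ofHom (β.comp (e'.symm : K' →+* _))) ≫
      Spec.map (CommRingCat.ofHom (algebraMap (Y.residueField (genericPoint ↥Y)) K')) ≫
        Y.fromSpecResidueField (genericPoint ↥Y) =
      Y'.fromSpecResidueField (genericPoint ↥Y') ≫ g ≫ V.ι := by
    rw [← hβ, ← Spec.map_comp_assoc]
    congr 2
    ext x
    show β (e'.symm (algebraMap _ K' x)) = β (AdjoinRoot.of _ x)
    rw [AlgEquiv.commutes, AdjoinRoot.algebraMap_eq]
  exact compGC_fiber_of_square f (g ≫ V.ι) (genericPoint ↥Y) (genericPoint ↥Y') _ _ hb hc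

end Groth.Agent.H8.GC
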