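import Mathlib
import Groth.Agent.Lib.Helper50.GeomFiberBC
import Groth.Agent.Lib.Helper51.GeomFibre
import Groth.Agent.H8.GC.Locus

/-!
# Geometric connectedness of a fibre and the count of geometric connected components (helper8)

`y ∈ Econn f ↔ MoreMor.nGeomConnComp f y = 1`.
-/

set_option autoImplicit false
set_option linter.style.haveILetI false
set_option linter.unusedSectionVars false

open CategoryTheory AlgebraicGeometry Limits TopologicalSpace

namespace Groth.Agent.H8.GC

universe u

theorem connectedSpace_iff_card_eq_one {T : Type*} [TopologicalSpace T] :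
    ConnectedSpace T ↔ ENat.card (_root_.ConnectedComponents T) = 1 := by
  rw [ENat.card_eq_one_iff_unique]
  constructor
  · intro h
    haveI : Nonempty (_root_.ConnectedComponents T) := inferInstance
    haveI : Subsingleton (_root_.ConnectedComponents T) := inferInstance
    exact ⟨@Unique.mk' _ ⟨Classical.arbitrary _⟩ _⟩
  · rintro ⟨hu⟩
    haveI : Nonempty T := _root_.ConnectedComponents.nonempty_iff_nonempty.mp ⟨hu.default⟩
    haveI : PreconnectedSpace T := by
      refine ⟨?_⟩
      obtain ⟨x⟩ := ‹Nonempty T›
      have : ∀ y : T, y ∈ connectedComponent x := fun y => by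
        have := hu.eq_default (_root_.ConnectedComponents.mk y)
        have h2 := hu.eq_default (_root_.ConnectedComponents.mk x)
        exact _root_.ConnectedComponents.coe_eq_coe'.mp (this.trans h2.symm)
      have huniv : connectedComponent x = Set.univ := Set.eq_univ_of_forall this
      rw [← huniv]
      exact isPreconnected_connectedComponent
    exact ⟨‹_›⟩

/-- Over a separably closed field, a connected scheme is geometrically connected. -/
theorem geometricallyConnected_of_isSepClosed {F : Scheme.{u}} {L : Type u} [Field L]
    [IsSepClosed L] (s : F ⟶ Spec (CommRingCat.of L)) [ConnectedSpace F] :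
    GeometricallyConnected s := by
  rw [geometricallyConnected_iff]
  intro K _ y Z fst snd hZ
  obtain ⟨φ, rfl⟩ := Spec.map_surjective y
  have h1 := Groth.Agent.Lib.Helper50.card_connectedComponents_eq_of_isSepClosed s snd φ.hom fst
    (by simpa using hZ)
  rw [connectedSpace_iff_card_eq_one, h1, ← connectedSpace_iff_card_eq_one]
  infer_instance

theorem mem_Econn_iff_nGeomConnComp_eq_one {X Y : Scheme.{u}} (f : X ⟶ Y) (y : ↥Y) :
    y ∈ Econn f ↔ MoreMor.nGeomConnComp f y = 1 := by
  unfold MoreMor.nGeomConnComp
  rw [← connectedSpace_iff_card_eq_one]
  constructor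
  · intro (h : GeometricallyConnected (f.fiberToSpecResidueField y))
    exact h.geometrically_connectedSpace _ _ _ (IsPullback.of_hasPullback _ _)
  · intro h
    show GeometricallyConnected (f.fiberToSpecResidueField y)
    haveI : ConnectedSpace ↥(pullback (f.fiberToSpecResidueField y)
      (Spec.map (CommRingCat.ofHom
        (algebraMap (Y.residueField y) (SeparableClosure (Y.residueField y)))))) := h
    have hK := geometricallyConnected_of_isSepClosed
      (pullback.snd (f.fiberToSpecResidueField y)
      (Spec.map (CommRingCat.ofHom
        (algebraMap (Y.residueField y) (SeparableClosure (Y.residueField y))))))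
    rw [geometricallyConnected_iff] at hK ⊢
    refine Groth.Agent.Lib.Helper51.geometrically_of_fieldExt (P := (ConnectedSpace ·)) ?_
      (CommRingCat.ofHom
        (algebraMap (Y.residueField y) (SeparableClosure (Y.residueField y))))
      (f.fiberToSpecResidueField y) _ _ (IsPullback.of_hasPullback _ _) hK
    intro Z' Z q _ _ _ hZ'
    haveI : ConnectedSpace ↥Z' := hZ'
    have hsurj : Function.Surjective q := q.surjective
    exact hsurj.connectedSpace q.continuous

end Groth.Agent.H8.GC
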