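import Mathlib
import Groth.Agent.H8.GC.CoverGI

/-!
# Geometrically connected generic fibre ⟹ geometrically connected fibres over a nonempty open,
assuming the irreducible analogue `H419` (helper8)
-/

set_option autoImplicit false
set_option linter.style.haveILetI false
set_option linter.unusedSectionVars false

open CategoryTheory AlgebraicGeometry Limits TopologicalSpace

namespace Groth.Agent.H8.GC

universe u

/-- Flat case. -/
theorem hasConnOpen_of_flat (H : H419.{u}) {X Y : Scheme.{u}} (f : X ⟶ Y)
    [IrreducibleSpace ↥Y] [Flat f] [LocallyOfFiniteType f] [QuasiCompact f]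
    (h : GeometricallyConnected (f.fiberToSpecResidueField (genericPoint ↥Y))) :
    HasConnOpen f := by
  obtain ⟨V, Y', g, hY', hne, haff, hsurj, hfin, het, hc⟩ := exists_cover_compGI f
  have hopen : IsOpenMap (g ≫ V.ι) := (g ≫ V.ι).isOpenMap
  have hη : (g ≫ V.ι) (genericPoint ↥Y') = genericPoint ↥Y :=
    map_genericPoint_of_denseRange _ (denseRange_of_isOpenMap _ hopen)
  have hsq := IsPullback.of_hasPullback f (g ≫ V.ι)
  have h' : GeometricallyConnected
      ((pullback.snd f (g ≫ V.ι)).fiberToSpecResidueField (genericPoint ↥Y')) := by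
    have := (mem_Econn_iff_of_isPullback hsq (genericPoint ↥Y')).mpr (by rw [hη]; exact h)
    exact this
  exact HasConnOpen.of_isPullback hsq hopen
    (hasConnOpen_of_flat_of_compGI H (pullback.snd f (g ≫ V.ι)) h' hc)

/-- Reduced base. -/
theorem hasConnOpen_of_isReduced (H : H419.{u}) {X Y : Scheme.{u}} (f : X ⟶ Y)
    [IrreducibleSpace ↥Y] [IsReduced Y] [LocallyOfFiniteType f] [QuasiCompact f]
    (h : GeometricallyConnected (f.fiberToSpecResidueField (genericPoint ↥Y))) :
    HasConnOpen f := by
  obtain ⟨U, hUd, hflat, hlfp⟩ := Groth.Agent.S0414.result f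
  haveI : IsIntegral Y := isIntegral_of_irreducibleSpace_of_isReduced Y
  haveI : Nonempty ↥(U : Scheme.{u}) := by
    obtain ⟨y, hy⟩ := hUd.nonempty
    exact ⟨⟨y, hy⟩⟩
  haveI : IsIntegral (U : Scheme.{u}) := isIntegral_of_isOpenImmersion U.ι
  haveI : IrreducibleSpace ↥(U : Scheme.{u}) := inferInstance
  have hdr : DenseRange U.ι := by
    rw [DenseRange, Scheme.Opens.range_ι]; exact hUd
  have hη : U.ι (genericPoint ↥(U : Scheme.{u})) = genericPoint ↥Y :=
    map_genericPoint_of_denseRange U.ι hdr
  have hsq := (isPullback_morphismRestrict f U).flip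
  have h' : GeometricallyConnected
      ((f ∣_ U).fiberToSpecResidueField (genericPoint ↥(U : Scheme.{u}))) := by
    have := (mem_Econn_iff_of_isPullback hsq (genericPoint ↥(U : Scheme.{u}))).mpr
      (by rw [hη]; exact h)
    exact this
  exact HasConnOpen.of_isPullback hsq U.ι.isOpenEmbedding.isOpenMap
    (hasConnOpen_of_flat H (f ∣_ U) h')

/-- General case. -/
theorem hasConnOpen_of_geometricallyConnected_generic (H : H419.{u}) {X Y : Scheme.{u}}
    (f : X ⟶ Y) [IrreducibleSpace ↥Y] [LocallyOfFiniteType f] [QuasiCompact f]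
    (h : GeometricallyConnected (f.fiberToSpecResidueField (genericPoint ↥Y))) :
    HasConnOpen f := by
  have hη : redι Y (genericPoint ↥(red Y)) = genericPoint ↥Y :=
    map_genericPoint_of_denseRange _ (redι_surjective Y).denseRange
  have hsq := IsPullback.of_hasPullback f (redι Y)
  have h' : GeometricallyConnected
      ((pullback.snd f (redι Y)).fiberToSpecResidueField (genericPoint ↥(red Y))) := by
    have := (mem_Econn_iff_of_isPullback hsq (genericPoint ↥(red Y))).mpr (by rw [hη]; exact h)
    exact this
  exact HasConnOpen.of_isPullback hsq (redι_isOpenMap Y)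
    (hasConnOpen_of_isReduced H (pullback.snd f (redι Y)) h')

/-- The statement of S0420 from the statement of S0419. -/
theorem exists_geometricallyConnected_restrict (H : H419.{u}) {X Y : Scheme.{u}}
    (f : X ⟶ Y) [IrreducibleSpace ↥Y] [LocallyOfFiniteType f] [QuasiCompact f]
    (h : GeometricallyConnected (f.fiberToSpecResidueField (genericPoint ↥Y))) :
    ∃ V : Y.Opens, (V : Set ↥Y).Nonempty ∧ GeometricallyConnected (f ∣_ V) :=
  (hasConnOpen_of_geometricallyConnected_generic H f h).geometricallyConnected

end Groth.Agent.H8.GC
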