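import Mathlib
import Groth.Agent.H8.GC.CompGC

/-!
# Pieces for counting geometric connected components near the generic point (helper8)
-/

set_option autoImplicit false
set_option linter.style.haveILetI false
set_option linter.unusedSectionVars false

open CategoryTheory AlgebraicGeometry Limits TopologicalSpace

namespace Groth.Agent.H8.GC

universe u

/-- A morphism of finite type to an irreducible scheme whose image misses the generic point has
image disjoint from a nonempty open. -/
theorem exists_open_disjoint_range {T Y : Scheme.{u}} [IrreducibleSpace ↥Y] (t : T ⟶ Y)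
    [LocallyOfFiniteType t] [QuasiCompact t] (hη : genericPoint ↥Y ∉ Set.range t) :
    ∃ V : Y.Opens, (V : Set ↥Y).Nonempty ∧ Disjoint (V : Set ↥Y) (Set.range t) := by
  let i := redι Y
  let t' := pullback.snd t i
  have hrange : Set.range t' = i ⁻¹' Set.range t :=
    range_snd_of_isPullback (IsPullback.of_hasPullback t i)
  obtain ⟨U, hUd, hflat, hlfp⟩ := Groth.Agent.S0414.result t'
  haveI : IsIntegral (red Y) := isIntegral_of_irreducibleSpace_of_isReduced _
  haveI : Nonempty ↥(U : Scheme.{u}) := by
    obtain ⟨y, hy⟩ := hUd.nonempty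
    exact ⟨⟨y, hy⟩⟩
  haveI : IsIntegral (U : Scheme.{u}) := isIntegral_of_isOpenImmersion U.ι
  have hiη : i (genericPoint ↥(red Y)) = genericPoint ↥Y :=
    map_genericPoint_of_denseRange i (redι_surjective Y).denseRange
  have hdr : DenseRange U.ι := by
    rw [DenseRange, Scheme.Opens.range_ι]; exact hUd
  have hUη : U.ι (genericPoint ↥(U : Scheme.{u})) = genericPoint ↥(red Y) :=
    map_genericPoint_of_denseRange U.ι hdr
  -- the restriction over `U` has empty source
  have hempty : IsEmpty ↥(t' ⁻¹ᵁ U : Scheme.{u}) := by
    by_contra hne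
    rw [not_isEmpty_iff] at hne
    obtain ⟨x⟩ := hne
    have hgen : GeneralizingMap (t' ∣_ U) := Flat.generalizingMap (t' ∣_ U)
    have hspec : genericPoint ↥(U : Scheme.{u}) ⤳ (t' ∣_ U) x := by
      rw [specializes_iff_mem_closure, (genericPoint_spec ↥(U : Scheme.{u})).def]; trivial
    obtain ⟨x', -, hx'⟩ := hgen hspec
    apply hη
    have h1 : t' ((t' ⁻¹ᵁ U).ι x') = genericPoint ↥(red Y) := by
      have := congrArg (fun m => m x') (morphismRestrict_ι t' U)
      simp only [Scheme.Hom.comp_apply] at this
      rw [← this, hx', hUη]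
    have h2 : genericPoint ↥(red Y) ∈ Set.range t' := ⟨_, h1⟩
    rw [hrange, Set.mem_preimage, hiη] at h2
    exact h2
  refine ⟨⟨i '' (U : Set ↥(red Y)), redι_isOpenMap Y _ U.isOpen⟩, hUd.nonempty.image _, ?_⟩
  rw [Set.disjoint_left]
  rintro _ ⟨u, hu, rfl⟩ hr
  have h3 : u ∈ Set.range t' := by rw [hrange]; exact hr
  obtain ⟨x, rfl⟩ := h3
  exact hempty.false ⟨x, hu⟩

/-- A closed immersion into a scheme over a field with "geometrically connected range" gives a
geometrically connected morphism. -/
theorem geometricallyConnected_of_range {F A : Scheme.{u}} {L : Type u} [Field L]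
    (s : F ⟶ Spec (CommRingCat.of L)) (i : A ⟶ F) [IsClosedImmersion i]
    (h : ∀ (K : Type u) [Field K] [Algebra L K],
      _root_.IsConnected (⇑(pullback.fst s (Spec.map (CommRingCat.ofHom (algebraMap L K)))) ⁻¹'
        Set.range i)) :
    GeometricallyConnected (i ≫ s) := by
  rw [GeometricallyConnected.eq_geometrically,
    geometrically_iff_of_commRing_of_isClosedUnderIsomorphisms]
  intro K _ _
  have hr := range_bcHom i s (Spec.map (CommRingCat.ofHom (algebraMap L K)))
  show ConnectedSpace _
  rw [Groth.Agent.Lib.Helper50.connectedSpace_iff_isConnected_range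
    (bcHom i s (Spec.map (CommRingCat.ofHom (algebraMap L K)))).isEmbedding.isInducing, hr]
  exact h K

/-- The closure of a "geometrically connected" connected component of a fibre, as a closed
subscheme, has geometrically connected fibre. -/
theorem geometricallyConnected_fiber_of_closure {X Y A : Scheme.{u}} (f : X ⟶ Y) (y : ↥Y)
    (hgc : CompGC (f.fiberToSpecResidueField y)) (z : ↥(f.fiber y)) (j : A ⟶ X)
    [IsClosedImmersion j] (hj : Set.range j = closure (f.fiberι y '' connectedComponent z)) :
    GeometricallyConnected ((j ≫ f).fiberToSpecResidueField y) := by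
  rw [← fiberBC_comp j f y]
  refine geometricallyConnected_of_range (L := Y.residueField y)
    (f.fiberToSpecResidueField y) (fiberBC j f y) ?_
  intro K _ _
  have h2 : Set.range (fiberBC j f y) = connectedComponent z := by
    rw [range_fiberBC, hj]
    exact preimage_closure_image_fiberι f y _ isClosed_connectedComponent
  rw [h2]
  exact hgc z _ _ _ (IsPullback.of_hasPullback _ _)

/-- Every point of the source of a flat morphism to an irreducible scheme is a specialization of
a point of the generic fibre. -/
theorem exists_fiberι_specializes {X Y : Scheme.{u}} (f : X ⟶ Y) [IrreducibleSpace ↥Y] [Flat f]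
    (x : ↥X) : ∃ z : ↥(f.fiber (genericPoint ↥Y)), f.fiberι (genericPoint ↥Y) z ⤳ x := by
  have hgen : GeneralizingMap f := Flat.generalizingMap f
  have hspec : genericPoint ↥Y ⤳ f x := by
    rw [specializes_iff_mem_closure, (genericPoint_spec ↥Y).def]; trivial
  obtain ⟨x', hx', hfx'⟩ := hgen hspec
  have hx'r : x' ∈ Set.range (f.fiberι (genericPoint ↥Y)) := by
    rw [f.range_fiberι]; exact hfx'
  obtain ⟨z, rfl⟩ := hx'r
  exact ⟨z, hx'⟩

/-- A space which is a finite disjoint union of closed connected subsets has exactly that many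
connected components. -/
theorem encard_connectedComponents_of_cover {G : Type*} [TopologicalSpace G] {ι : Type*}
    [Finite ι] (s : ι → Set G) (hconn : ∀ i, _root_.IsConnected (s i))
    (hcl : ∀ i, IsClosed (s i)) (hdisj : ∀ i j, i ≠ j → Disjoint (s i) (s j))
    (hcov : ⋃ i, s i = Set.univ) :
    ENat.card (_root_.ConnectedComponents G) = ENat.card ι := by
  classical
  have hclopen : ∀ i, IsClopen (s i) := by
    intro i
    refine ⟨hcl i, ?_⟩
    have hcompl : (s i)ᶜ = ⋃ j ∈ ({i}ᶜ : Set ι), s j := by
      ext x
      constructor
      · intro hx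
        have hxu : x ∈ ⋃ i, s i := hcov ▸ Set.mem_univ x
        obtain ⟨j, hj⟩ := Set.mem_iUnion.mp hxu
        refine Set.mem_biUnion (x := j) ?_ hj
        rintro rfl
        exact hx hj
      · intro hx hxi
        obtain ⟨j, hji, hj⟩ := Set.mem_iUnion₂.mp hx
        exact (Set.disjoint_left.mp (hdisj i j (fun h => hji h.symm)) hxi) hj
    rw [← isClosed_compl_iff, hcompl]
    exact (Set.toFinite _).isClosed_biUnion fun j _ => hcl j
  let φ : ι → _root_.ConnectedComponents G := fun i => _root_.ConnectedComponents.mk (hconn i).nonempty.some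
  have hφ : ∀ i, ∀ x ∈ s i, _root_.ConnectedComponents.mk x = φ i := by
    intro i x hx
    rw [_root_.ConnectedComponents.coe_eq_coe']
    exact (hconn i).isPreconnected.subset_connectedComponent (hconn i).nonempty.some_mem hx
  have hbij : Function.Bijective φ := by
    constructor
    · intro i j hij
      by_contra hne
      have hi := (hconn i).nonempty.some_mem
      have hj := (hconn j).nonempty.some_mem
      have h1 : (hconn j).nonempty.some ∈ connectedComponent (hconn i).nonempty.some :=
        _root_.ConnectedComponents.coe_eq_coe'.mp hij.symm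
      have h2 : connectedComponent (hconn i).nonempty.some ⊆ s i :=
        (hclopen i).connectedComponent_subset hi
      exact (Set.disjoint_left.mp (hdisj i j hne) (h2 h1)) hj
    · intro q
      obtain ⟨x, rfl⟩ := _root_.ConnectedComponents.surjective_coe q
      have hxu : x ∈ ⋃ i, s i := hcov ▸ Set.mem_univ x
      obtain ⟨i, hi⟩ := Set.mem_iUnion.mp hxu
      exact ⟨i, (hφ i x hi).symm⟩
  exact (ENat.card_congr (Equiv.ofBijective φ hbij)).symm

end Groth.Agent.H8.GC
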