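import Mathlib
import Groth.Prelude
import Groth.Agent.H8.GC.CountPieces
import Groth.Agent.H8.GC.ConnMain

/-!
# The number of geometric connected components is constant near the generic point: flat case with
geometrically connected components of the generic fibre (helper8)
-/

set_option autoImplicit false
set_option linter.style.haveILetI false
set_option linter.unusedSectionVars false

open CategoryTheory AlgebraicGeometry Limits TopologicalSpace

namespace Groth.Agent.H8.GC

universe u

/-- The statement of S0420, as a hypothesis. -/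
def H420 : Prop :=
  ∀ {X Y : Scheme.{u}} (f : X ⟶ Y) [IrreducibleSpace ↥Y] [LocallyOfFiniteType f] [QuasiCompact f],
    GeometricallyConnected (f.fiberToSpecResidueField (genericPoint ↥Y)) →
    ∃ V : Y.Opens, (V : Set ↥Y).Nonempty ∧ GeometricallyConnected (f ∣_ V)

theorem H420_of_H419 (H : H419.{u}) : H420.{u} :=
  fun f _ _ _ h => exists_geometricallyConnected_restrict H f h

theorem exists_open_nGeomConnComp_eq_of_flat (H : H420.{u}) {X Y : Scheme.{u}} (f : X ⟶ Y)
    [IrreducibleSpace ↥Y] [Flat f] [LocallyOfFiniteType f] [QuasiCompact f]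
    (hgc : CompGC (f.fiberToSpecResidueField (genericPoint ↥Y))) :
    ∃ V : Y.Opens, genericPoint ↥Y ∈ V ∧ ∀ v ∈ V, MoreMor.nGeomConnComp f v =
      ENat.card (_root_.ConnectedComponents ↥(f.fiber (genericPoint ↥Y))) := by
  classical
  haveI := finite_connectedComponents_fiber f (genericPoint ↥Y)
  -- the closures of the connected components
  let rep : _root_.ConnectedComponents ↥(f.fiber (genericPoint ↥Y)) → ↥(f.fiber (genericPoint ↥Y)) :=
    Function.surjInv _root_.ConnectedComponents.surjective_coe
  have hrep : ∀ c, _root_.ConnectedComponents.mk (rep c) = c :=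
    Function.surjInv_eq _root_.ConnectedComponents.surjective_coe
  let Cc : _root_.ConnectedComponents ↥(f.fiber (genericPoint ↥Y)) → Set ↥(f.fiber (genericPoint ↥Y)) :=
    fun c => connectedComponent (rep c)
  have hCc : ∀ z : ↥(f.fiber (genericPoint ↥Y)), z ∈ Cc (_root_.ConnectedComponents.mk z) := by
    intro z
    exact _root_.ConnectedComponents.coe_eq_coe'.mp (hrep (_root_.ConnectedComponents.mk z)).symm
  have hCcdisj : ∀ c c', c ≠ c' → Disjoint (Cc c) (Cc c') := by
    intro c c' hne
    rw [Set.disjoint_left]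
    intro z hz hz'
    apply hne
    have h1 : _root_.ConnectedComponents.mk z = _root_.ConnectedComponents.mk (rep c) :=
      _root_.ConnectedComponents.coe_eq_coe'.mpr hz
    have h2 : _root_.ConnectedComponents.mk z = _root_.ConnectedComponents.mk (rep c') :=
      _root_.ConnectedComponents.coe_eq_coe'.mpr hz'
    rw [← hrep c, ← hrep c']
    exact h1.symm.trans h2
  let C : _root_.ConnectedComponents ↥(f.fiber (genericPoint ↥Y)) → Set ↥X :=
    fun c => closure (f.fiberι (genericPoint ↥Y) '' Cc c)
  have hCcl : ∀ c, IsClosed (C c) := fun c => isClosed_closure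
  have hCcov : ∀ x : ↥X, ∃ c, x ∈ C c := by
    intro x
    obtain ⟨z, hz⟩ := exists_fiberι_specializes f x
    refine ⟨_root_.ConnectedComponents.mk z, ?_⟩
    exact isClosed_closure.closure_subset_iff.mpr
      (Set.singleton_subset_iff.mpr (subset_closure (Set.mem_image_of_mem _ (hCc z))))
      (specializes_iff_mem_closure.mp hz)
  -- opens where the closures have geometrically connected fibres
  have hd : ∀ c : _root_.ConnectedComponents ↥(f.fiber (genericPoint ↥Y)),
      ∃ V : Y.Opens, (V : Set ↥Y).Nonempty ∧
        ∀ (K : Type u) [Field K] (q : Spec (CommRingCat.of K) ⟶ Y), Set.range q ⊆ (V : Set ↥Y) →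
          _root_.IsConnected (⇑(pullback.fst f q) ⁻¹' C c) := by
    intro c
    let I := Scheme.IdealSheafData.vanishingIdeal ⟨C c, hCcl c⟩
    let j : I.subscheme ⟶ X := I.subschemeι
    have hj : Set.range j = C c := by
      rw [Scheme.IdealSheafData.range_subschemeι,
        Scheme.IdealSheafData.coe_support_vanishingIdeal]
      rfl
    have hc : GeometricallyConnected ((j ≫ f).fiberToSpecResidueField (genericPoint ↥Y)) :=
      geometricallyConnected_fiber_of_closure f _ hgc (rep c) j hj
    obtain ⟨V, hne, hV⟩ := H (j ≫ f) hc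
    refine ⟨V, hne, ?_⟩
    intro K _ q hq
    haveI : ConnectedSpace ↥(pullback (j ≫ f) q) :=
      pullback_of_geometrically_restrict (P := (ConnectedSpace ·)) (j ≫ f) V
        hV.geometrically_connectedSpace q hq
    rw [← hj, ← range_bcHom j f q, ← Set.image_univ]
    exact (connectedSpace_iff_univ.mp inferInstance).image _
      (bcHom j f q).continuous.continuousOn
  choose VC hVCne hVC using hd
  -- opens over which distinct closures are disjoint
  have he : ∀ c c' : _root_.ConnectedComponents ↥(f.fiber (genericPoint ↥Y)),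
      ∃ V : Y.Opens, (V : Set ↥Y).Nonempty ∧
        (c ≠ c' → Disjoint (V : Set ↥Y) (f '' (C c ∩ C c'))) := by
    intro c c'
    by_cases hcc : c = c'
    · exact ⟨⊤, ⟨genericPoint ↥Y, trivial⟩, fun h => absurd hcc h⟩
    · let I := Scheme.IdealSheafData.vanishingIdeal ⟨C c ∩ C c', (hCcl c).inter (hCcl c')⟩
      let j : I.subscheme ⟶ X := I.subschemeι
      have hj : Set.range j = C c ∩ C c' := by
        rw [Scheme.IdealSheafData.range_subschemeι,
          Scheme.IdealSheafData.coe_support_vanishingIdeal]
        rfl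
      have hη : genericPoint ↥Y ∉ Set.range (j ≫ f) := by
        rintro ⟨a, ha⟩
        rw [Scheme.Hom.comp_apply] at ha
        have hx : j a ∈ Set.range (f.fiberι (genericPoint ↥Y)) := by
          rw [f.range_fiberι]; exact ha
        obtain ⟨z, hz⟩ := hx
        have hja : j a ∈ C c ∩ C c' := hj ▸ ⟨a, rfl⟩
        rw [← hz] at hja
        have h1 : z ∈ Cc c := by
          have := preimage_closure_image_fiberι f (genericPoint ↥Y) (Cc c)
            isClosed_connectedComponent
          rw [← this]; exact hja.1
        have h2 : z ∈ Cc c' := by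
          have := preimage_closure_image_fiberι f (genericPoint ↥Y) (Cc c')
            isClosed_connectedComponent
          rw [← this]; exact hja.2
        exact (Set.disjoint_left.mp (hCcdisj c c' hcc) h1) h2
      obtain ⟨V, hne, hV⟩ := exists_open_disjoint_range (j ≫ f) hη
      refine ⟨V, hne, fun _ => ?_⟩
      have hr : Set.range (j ≫ f) = f '' (C c ∩ C c') := by
        rw [Scheme.Hom.comp_base, TopCat.coe_comp, Set.range_comp, hj]
      rw [← hr]; exact hV
  choose VD hVDne hVD using he
  let V : Set ↥Y := (⋂ c, (VC c : Set ↥Y)) ∩ ⋂ c, ⋂ c', (VD c c' : Set ↥Y)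
  have hVo : IsOpen V :=
    (isOpen_iInter_of_finite fun c => (VC c).isOpen).inter
      (isOpen_iInter_of_finite fun c => isOpen_iInter_of_finite fun c' => (VD c c').isOpen)
  have hVη : genericPoint ↥Y ∈ V := by
    refine ⟨Set.mem_iInter.mpr fun c => genericPoint_mem_of_nonempty _ (hVCne c),
      Set.mem_iInter.mpr fun c => Set.mem_iInter.mpr fun c' =>
        genericPoint_mem_of_nonempty _ (hVDne c c')⟩
  refine ⟨⟨V, hVo⟩, hVη, ?_⟩
  intro v hv
  -- the geometric fibre over `v`
  let Ω := SeparableClosure (Y.residueField v)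
  let q₀ : Spec (CommRingCat.of Ω) ⟶ Spec (Y.residueField v) :=
    Spec.map (CommRingCat.ofHom (algebraMap (Y.residueField v) Ω))
  let q : Spec (CommRingCat.of Ω) ⟶ Y := q₀ ≫ Y.fromSpecResidueField v
  have hqr : Set.range q ⊆ {v} := by
    rintro _ ⟨a, rfl⟩
    show (q₀ ≫ Y.fromSpecResidueField v) a = v
    rw [Scheme.Hom.comp_apply, Scheme.fromSpecResidueField_apply]
  have hpaste : IsPullback (pullback.fst (f.fiberToSpecResidueField v) q₀ ≫ f.fiberι v)
      (pullback.snd (f.fiberToSpecResidueField v) q₀) f q :=
    (IsPullback.of_hasPullback (f.fiberToSpecResidueField v) q₀).paste_horiz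
      (IsPullback.of_hasPullback f (Y.fromSpecResidueField v))
  let p' : pullback (f.fiberToSpecResidueField v) q₀ ⟶ X :=
    pullback.fst (f.fiberToSpecResidueField v) q₀ ≫ f.fiberι v
  have hp'e : p' = hpaste.isoPullback.hom ≫ pullback.fst f q :=
    hpaste.isoPullback_hom_fst.symm
  let G : _root_.ConnectedComponents ↥(f.fiber (genericPoint ↥Y)) → Set ↥(pullback (f.fiberToSpecResidueField v) q₀) :=
    fun c => ⇑p' ⁻¹' C c
  have hfp' : ∀ g : ↥(pullback (f.fiberToSpecResidueField v) q₀), f (p' g) = v := by
    intro g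
    show f ((pullback.fst (f.fiberToSpecResidueField v) q₀ ≫ f.fiberι v) g) = v
    rw [Scheme.Hom.comp_apply]
    exact fiberι_mem f v _
  show ENat.card (_root_.ConnectedComponents ↥(pullback (f.fiberToSpecResidueField v) q₀)) = _
  refine encard_connectedComponents_of_cover G ?_ ?_ ?_ ?_
  · intro c
    have h1 := hVC c Ω q (hqr.trans (Set.singleton_subset_iff.mpr (Set.mem_iInter.mp hv.1 c)))
    show _root_.IsConnected (⇑p' ⁻¹' C c)
    rw [hp'e, Scheme.Hom.comp_base, TopCat.coe_comp, Set.preimage_comp]
    exact isConnected_preimage_of_isIso _ h1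
  · intro c
    exact (hCcl c).preimage p'.continuous
  · intro c c' hne
    rw [Set.disjoint_left]
    intro g hg hg'
    have hv2 : v ∈ (VD c c' : Set ↥Y) := Set.mem_iInter.mp (Set.mem_iInter.mp hv.2 c) c'
    exact (Set.disjoint_left.mp (hVD c c' hne) hv2) ⟨p' g, ⟨hg, hg'⟩, hfp' g⟩
  · rw [Set.eq_univ_iff_forall]
    intro g
    obtain ⟨c, hc⟩ := hCcov (p' g)
    exact Set.mem_iUnion.mpr ⟨c, hc⟩

end Groth.Agent.H8.GC
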