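import Mathlib
import Groth.Prelude
import Groth.Agent.S1335
import Groth.Agent.H8.GC.CountCore

/-!
# The number of geometric connected components is constant near the generic point of `closure {y}`
(S1337 modulo the statement of S0419) (helper8)
-/

set_option autoImplicit false
set_option linter.style.haveILetI false
set_option linter.unusedSectionVars false

open CategoryTheory AlgebraicGeometry Limits TopologicalSpace

namespace Groth.Agent.H8.GC

universe u

/-- The count of geometric connected components is constant on an open neighbourhood of the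
generic point. -/
def HasConstOpen {X Y : Scheme.{u}} (f : X ⟶ Y) [IrreducibleSpace ↥Y] : Prop :=
  ∃ V : Y.Opens, genericPoint ↥Y ∈ V ∧
    ∀ v ∈ V, MoreMor.nGeomConnComp f v = MoreMor.nGeomConnComp f (genericPoint ↥Y)

theorem HasConstOpen.of_isPullback {X Y X' Y' : Scheme.{u}} {f : X ⟶ Y} {g : Y' ⟶ Y}
    {f' : X' ⟶ Y'} {g' : X' ⟶ X} [IrreducibleSpace ↥Y] [IrreducibleSpace ↥Y']
    (hc : IsPullback g' f' f g) (hg : IsOpenMap g) (h : HasConstOpen f') : HasConstOpen f := by
  obtain ⟨V', hη', hV'⟩ := h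
  have hη : g (genericPoint ↥Y') = genericPoint ↥Y :=
    map_genericPoint_of_denseRange g (denseRange_of_isOpenMap g hg)
  refine ⟨⟨g '' (V' : Set ↥Y'), hg _ V'.isOpen⟩, ⟨_, hη', hη⟩, ?_⟩
  rintro _ ⟨v', hv', rfl⟩
  rw [← Groth.Agent.S1335.result f f' g' g hc v', hV' v' hv',
    Groth.Agent.S1335.result f f' g' g hc (genericPoint ↥Y'), hη]

theorem hasConstOpen_of_flat (H : H420.{u}) {X Y : Scheme.{u}} (f : X ⟶ Y)
    [IrreducibleSpace ↥Y] [Flat f] [LocallyOfFiniteType f] [QuasiCompact f] : HasConstOpen f := by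
  obtain ⟨V, Y', g, hY', hne, haff, hsurj, hfin, het, hc⟩ := exists_cover_compGC f
  have hopen : IsOpenMap (g ≫ V.ι) := (g ≫ V.ι).isOpenMap
  have hsq := IsPullback.of_hasPullback f (g ≫ V.ι)
  obtain ⟨V', hη', hV'⟩ := exists_open_nGeomConnComp_eq_of_flat H (pullback.snd f (g ≫ V.ι)) hc
  exact HasConstOpen.of_isPullback hsq hopen
    ⟨V', hη', fun v hv => (hV' v hv).trans (hV' _ hη').symm⟩

theorem hasConstOpen_of_isReduced (H : H420.{u}) {X Y : Scheme.{u}} (f : X ⟶ Y)
    [IrreducibleSpace ↥Y] [IsReduced Y] [LocallyOfFiniteType f] [QuasiCompact f] :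
    HasConstOpen f := by
  obtain ⟨U, hUd, hflat, hlfp⟩ := Groth.Agent.S0414.result f
  haveI : IsIntegral Y := isIntegral_of_irreducibleSpace_of_isReduced Y
  haveI : Nonempty ↥(U : Scheme.{u}) := by
    obtain ⟨y, hy⟩ := hUd.nonempty
    exact ⟨⟨y, hy⟩⟩
  haveI : IsIntegral (U : Scheme.{u}) := isIntegral_of_isOpenImmersion U.ι
  haveI : IrreducibleSpace ↥(U : Scheme.{u}) := inferInstance
  exact HasConstOpen.of_isPullback (isPullback_morphismRestrict f U).flip
    U.ι.isOpenEmbedding.isOpenMap (hasConstOpen_of_flat H (f ∣_ U))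

theorem hasConstOpen (H : H420.{u}) {X Y : Scheme.{u}} (f : X ⟶ Y)
    [IrreducibleSpace ↥Y] [LocallyOfFiniteType f] [QuasiCompact f] : HasConstOpen f :=
  HasConstOpen.of_isPullback (IsPullback.of_hasPullback f (redι Y)) (redι_isOpenMap Y)
    (hasConstOpen_of_isReduced H (pullback.snd f (redι Y)))

/-- S1337 from the statement of S0420. -/
theorem exists_nGeomConnComp_const_near (H : H420.{u}) {X Y : Scheme.{u}} (f : X ⟶ Y)
    [LocallyOfFiniteType f] [QuasiCompact f] (y : ↥Y) :
    ∃ V : Set ↥Y, V ⊆ closure {y} ∧ y ∈ V ∧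
      IsOpen (Subtype.val ⁻¹' V : Set ↥(closure ({y} : Set ↥Y))) ∧
      ∀ y' ∈ V, MoreMor.nGeomConnComp f y' = MoreMor.nGeomConnComp f y := by
  let I := Scheme.IdealSheafData.vanishingIdeal ⟨closure {y}, isClosed_closure⟩
  let i : I.subscheme ⟶ Y := I.subschemeι
  have hi : Set.range i = closure {y} := by
    rw [Scheme.IdealSheafData.range_subschemeι, Scheme.IdealSheafData.coe_support_vanishingIdeal]
    rfl
  haveI : IrreducibleSpace ↥I.subscheme := by
    rw [Groth.Agent.Lib.Helper50.irreducibleSpace_iff_isIrreducible_range i.isEmbedding, hi]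
    exact isIrreducible_singleton.closure
  -- the generic point maps to `y`
  have hζ : i (genericPoint ↥I.subscheme) = y := by
    have h1 : IsGenericPoint (i (genericPoint ↥I.subscheme)) (closure (i '' Set.univ)) :=
      (genericPoint_spec ↥I.subscheme).image i.continuous
    rw [Set.image_univ, hi, closure_closure] at h1
    exact h1.eq rfl
  obtain ⟨W, hζW, hW⟩ := hasConstOpen H (pullback.snd f i)
  have hsq := IsPullback.of_hasPullback f i
  refine ⟨i '' (W : Set ↥I.subscheme), ?_, ⟨_, hζW, hζ⟩, ?_, ?_⟩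
  · rintro _ ⟨w, -, rfl⟩
    rw [← hi]; exact ⟨w, rfl⟩
  · obtain ⟨O, hO, hOW⟩ := i.isEmbedding.isInducing.isOpen_iff.mp W.isOpen
    have : (Subtype.val ⁻¹' (i '' (W : Set ↥I.subscheme)) : Set ↥(closure ({y} : Set ↥Y))) =
        Subtype.val ⁻¹' O := by
      ext ⟨a, ha⟩
      simp only [Set.mem_preimage]
      constructor
      · rintro ⟨w, hw, rfl⟩
        rw [← hOW] at hw; exact hw
      · intro haO
        rw [← hi] at ha
        obtain ⟨w, rfl⟩ := ha
        exact ⟨w, by rw [← hOW]; exact haO, rfl⟩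
    rw [this]
    exact hO.preimage continuous_subtype_val
  · rintro _ ⟨w, hw, rfl⟩
    rw [← Groth.Agent.S1335.result f _ _ i hsq w, hW w hw,
      Groth.Agent.S1335.result f _ _ i hsq (genericPoint ↥I.subscheme), hζ]

end Groth.Agent.H8.GC
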