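import Mathlib
import Groth.Agent.S1335
import Groth.Agent.Lib.Helper12.ConstrTop
import Groth.Agent.H8.GC.CountMain
import Groth.Agent.H8.GC.ConnCount

/-!
# Constructibility of the level sets of the count of geometric connected components:
Noetherian case (helper8)
-/

set_option autoImplicit false
set_option linter.style.haveILetI false
set_option linter.unusedSectionVars false

open CategoryTheory AlgebraicGeometry Limits TopologicalSpace Topology

namespace Groth.Agent.H8.GC

universe u

/-- Noetherian case of S1339 (modulo the statement of S0420). -/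
theorem isConstructible_nGeomConnComp_eq (H : H420.{u}) {X Y : Scheme.{u}} (f : X ⟶ Y)
    [LocallyOfFiniteType f] [QuasiCompact f] [NoetherianSpace ↥Y] (n : ℕ∞) :
    IsConstructible {y : ↥Y | MoreMor.nGeomConnComp f y = n} := by
  have key := (Groth.Agent.Lib.Helper12.ConstrTop.constructible_function_iff
    (MoreMor.nGeomConnComp f)).mpr ?_
  · exact key.1 n
  intro Z hZc hZi
  have hη := hZi.isGenericPoint_genericPoint hZc
  set η := hZi.genericPoint with hηdef
  obtain ⟨V, hVsub, hηV, hVo, hV⟩ := exists_nGeomConnComp_const_near H f η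
  rw [isOpen_induced_iff] at hVo
  obtain ⟨U, hU, hUV⟩ := hVo
  have hcl : closure ({η} : Set ↥Y) = Z := hη.def
  have hUZ : U ∩ Z ⊆ V := by
    rintro a ⟨haU, haZ⟩
    have haZ' : a ∈ closure ({η} : Set ↥Y) := hcl ▸ haZ
    have : (⟨a, haZ'⟩ : ↥(closure ({η} : Set ↥Y))) ∈ Subtype.val ⁻¹' U := haU
    rw [hUV] at this
    exact this
  have hηU : η ∈ U := by
    have : (⟨η, subset_closure rfl⟩ : ↥(closure ({η} : Set ↥Y))) ∈ Subtype.val ⁻¹' V := hηV
    rw [← hUV] at this
    exact this
  refine ⟨U, hU, ⟨η, hηU, hη.mem⟩, ?_⟩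
  intro a ha b hb
  rw [hV a (hUZ ha), hV b (hUZ hb)]

/-- Noetherian case: the locus of geometrically connected fibres is constructible. -/
theorem isConstructible_Econn (H : H420.{u}) {X Y : Scheme.{u}} (f : X ⟶ Y)
    [LocallyOfFiniteType f] [QuasiCompact f] [NoetherianSpace ↥Y] :
    IsConstructible (Econn f) := by
  have : Econn f = {y : ↥Y | MoreMor.nGeomConnComp f y = 1} := by
    ext y
    exact mem_Econn_iff_nGeomConnComp_eq_one f y
  rw [this]
  exact isConstructible_nGeomConnComp_eq H f 1

end Groth.Agent.H8.GC
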