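import Mathlib
import Groth.Agent.Lib.Helper50.GeomFiberBC
import Groth.Agent.Lib.Helper51.GeomFibre
import Groth.Agent.H8.GC.Locus

/-!
# Geometric irreducibility of a fibre and the count of geometric irreducible components
(helper8)

`y ∈ Eirr f ↔ MoreMor.nGeomIrredComp f y = 1`.
-/

set_option autoImplicit false
set_option linter.style.haveILetI false
set_option linter.unusedSectionVars false

open CategoryTheory AlgebraicGeometry Limits TopologicalSpace

namespace Groth.Agent.H8.GC

universe u

/-- The locus of points with geometrically irreducible fibre. -/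
def Eirr {X Y : Scheme.{u}} (f : X ⟶ Y) : Set ↥Y :=
  {y | GeometricallyIrreducible (f.fiberToSpecResidueField y)}

theorem mem_Eirr_iff_of_isPullback {X Y X' Y' : Scheme.{u}} {f : X ⟶ Y} {g : Y' ⟶ Y}
    {f' : X' ⟶ Y'} {g' : X' ⟶ X} (hc : IsPullback g' f' f g) (y' : ↥Y') :
    y' ∈ Eirr f' ↔ g y' ∈ Eirr f :=
  Groth.Agent.Lib.Helper51.geometricallyIrreducible_fibre_baseChange_iff hc y'

theorem irreducibleSpace_iff_encard_eq_one {T : Type*} [TopologicalSpace T] :
    IrreducibleSpace T ↔ (irreducibleComponents T).encard = 1 := by
  constructor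
  · intro h
    rw [irreducibleComponents_eq_singleton, Set.encard_singleton]
  · intro h
    obtain ⟨Z, hZ⟩ := Set.encard_eq_one.mp h
    have hZm : Z ∈ irreducibleComponents T := hZ ▸ Set.mem_singleton Z
    have huniv : Z = Set.univ := by
      rw [Set.eq_univ_iff_forall]
      intro x
      have h1 : irreducibleComponent x ∈ irreducibleComponents T :=
        irreducibleComponent_mem_irreducibleComponents x
      rw [hZ, Set.mem_singleton_iff] at h1
      rw [← h1]
      exact mem_irreducibleComponent
    rw [irreducibleSpace_def]
    have h2 : IsIrreducible Z := hZm.1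
    rw [huniv] at h2
    exact h2

/-- Over a separably closed field, an irreducible scheme is geometrically irreducible. -/
theorem geometricallyIrreducible_of_isSepClosed {F : Scheme.{u}} {L : Type u} [Field L]
    [IsSepClosed L] (s : F ⟶ Spec (CommRingCat.of L)) [IrreducibleSpace F] :
    GeometricallyIrreducible s := by
  rw [geometricallyIrreducible_iff]
  intro K _ y Z fst snd hZ
  obtain ⟨φ, rfl⟩ := Spec.map_surjective y
  have h1 := Groth.Agent.Lib.Helper50.encard_irreducibleComponents_eq_of_isSepClosed s snd φ.hom
    fst (by simpa using hZ)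
  show IrreducibleSpace ↥Z
  rw [irreducibleSpace_iff_encard_eq_one, h1, ← irreducibleSpace_iff_encard_eq_one]
  infer_instance

theorem mem_Eirr_iff_nGeomIrredComp_eq_one {X Y : Scheme.{u}} (f : X ⟶ Y) (y : ↥Y) :
    y ∈ Eirr f ↔ MoreMor.nGeomIrredComp f y = 1 := by
  unfold MoreMor.nGeomIrredComp
  rw [← irreducibleSpace_iff_encard_eq_one]
  constructor
  · intro (h : GeometricallyIrreducible (f.fiberToSpecResidueField y))
    exact h.geometrically_irreducibleSpace _ _ _ (IsPullback.of_hasPullback _ _)
  · intro h
    show GeometricallyIrreducible (f.fiberToSpecResidueField y)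
    haveI : IrreducibleSpace ↥(pullback (f.fiberToSpecResidueField y)
      (Spec.map (CommRingCat.ofHom
        (algebraMap (Y.residueField y) (SeparableClosure (Y.residueField y)))))) := h
    have hK := geometricallyIrreducible_of_isSepClosed
      (pullback.snd (f.fiberToSpecResidueField y)
      (Spec.map (CommRingCat.ofHom
        (algebraMap (Y.residueField y) (SeparableClosure (Y.residueField y))))))
    rw [geometricallyIrreducible_iff] at hK ⊢
    refine Groth.Agent.Lib.Helper51.geometrically_of_fieldExt (P := (IrreducibleSpace ·)) ?_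
      (CommRingCat.ofHom
        (algebraMap (Y.residueField y) (SeparableClosure (Y.residueField y))))
      (f.fiberToSpecResidueField y) _ _ (IsPullback.of_hasPullback _ _) hK
    intro Z' Z q _ _ _ hZ'
    haveI : IrreducibleSpace ↥Z' := hZ'
    have hsurj : Function.Surjective q := q.surjective
    exact hsurj.irreducibleSpace q.continuous

end Groth.Agent.H8.GC
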