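import Mathlib
import Groth.Prelude
import Groth.Agent.H8.GC.CountPieces
import Groth.Agent.H8.GC.ConnMain

/-!
# Counting irreducible components from a finite cover by irreducible closed sets (helper8)
-/

set_option autoImplicit false
set_option linter.style.haveILetI false
set_option linter.unusedSectionVars false

open CategoryTheory AlgebraicGeometry Limits TopologicalSpace

namespace Groth.Agent.H8.GC

universe u

theorem encard_irreducibleComponents_of_cover {G : Type*} [TopologicalSpace G] {ι : Type*}
    [Finite ι] (S : ι → Set G) (hirr : ∀ i, IsIrreducible (S i)) (hcl : ∀ i, IsClosed (S i))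
    (hinj : ∀ i j, S i ⊆ S j → i = j) (hcov : ⋃ i, S i = Set.univ) :
    (irreducibleComponents G).encard = ENat.card ι := by
  classical
  haveI := Fintype.ofFinite ι
  have key : ∀ T : Set G, IsIrreducible T → ∃ j, T ⊆ S j := by
    intro T hT
    obtain ⟨z, hz, hTz⟩ := isIrreducible_iff_sUnion_isClosed.mp hT (Finset.univ.image S)
      (by
        intro z hz
        obtain ⟨i, -, rfl⟩ := Finset.mem_image.mp hz
        exact hcl i)
      (by
        intro x _
        have hx : x ∈ ⋃ i, S i := hcov ▸ Set.mem_univ x
        obtain ⟨i, hi⟩ := Set.mem_iUnion.mp hx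
        exact Set.mem_sUnion.mpr ⟨S i, by simp, hi⟩)
    obtain ⟨i, -, rfl⟩ := Finset.mem_image.mp hz
    exact ⟨i, hTz⟩
  have hrange : irreducibleComponents G = Set.range S := by
    ext T
    constructor
    · intro hT
      obtain ⟨j, hj⟩ := key T hT.1
      exact ⟨j, (hj.antisymm (hT.2 (hirr j) hj)).symm ▸ rfl⟩
    · rintro ⟨i, rfl⟩
      refine ⟨hirr i, fun T hT hle => ?_⟩
      obtain ⟨j, hj⟩ := key T hT
      have := hinj i j (hle.trans hj)
      subst this
      exact hj
  have hS : Function.Injective S := fun i j h => hinj i j h.le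
  rw [hrange, ← Set.image_univ, hS.encard_image, Set.encard_univ]

end Groth.Agent.H8.GC
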