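import Mathlib
import Groth.Prelude
import Groth.Agent.H8.GC.IrrCountPieces

/-!
# The number of geometric irreducible components is constant near the generic point: flat case
over an affine base with geometrically irreducible components of the generic fibre (helper8)
-/

set_option autoImplicit false
set_option linter.style.haveILetI false
set_option linter.unusedSectionVars false

open CategoryTheory AlgebraicGeometry Limits TopologicalSpace

namespace Groth.Agent.H8.GC

universe u

theorem exists_open_nGeomIrredComp_eq_of_flat (H : H419.{u}) {X Y : Scheme.{u}} (f : X ⟶ Y)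
    [IrreducibleSpace ↥Y] [IsAffine Y] [Flat f] [LocallyOfFiniteType f] [QuasiCompact f]
    (hgi : CompGI (f.fiberToSpecResidueField (genericPoint ↥Y))) :
    ∃ V : Y.Opens, genericPoint ↥Y ∈ V ∧ ∀ v ∈ V, MoreMor.nGeomIrredComp f v =
      (irreducibleComponents ↥(f.fiber (genericPoint ↥Y))).encard := by
  classical
  haveI : Finite ↥(irreducibleComponents ↥(f.fiber (genericPoint ↥Y))) :=
    (finite_irreducibleComponents_fiber f _).to_subtype
  -- the closures of the components
  let C : ↥(irreducibleComponents ↥(f.fiber (genericPoint ↥Y))) → Set ↥X :=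
    fun Z => closure (f.fiberι (genericPoint ↥Y) '' Z.1)
  have hCcl : ∀ Z, IsClosed (C Z) := fun Z => isClosed_closure
  have hCpre : ∀ Z, f.fiberι (genericPoint ↥Y) ⁻¹' C Z = Z.1 := fun Z =>
    preimage_closure_image_fiberι f (genericPoint ↥Y) Z.1
      (isClosed_of_mem_irreducibleComponents Z.1 Z.2)
  -- (d) opens where the closures have geometrically irreducible fibres
  have hd : ∀ Z : ↥(irreducibleComponents ↥(f.fiber (genericPoint ↥Y))),
      ∃ V : Y.Opens, (V : Set ↥Y).Nonempty ∧
        ∀ (K : Type u) [Field K] (q : Spec (CommRingCat.of K) ⟶ Y), Set.range q ⊆ (V : Set ↥Y) →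
          IsIrreducible (⇑(pullback.fst f q) ⁻¹' C Z) := by
    intro Z
    let I := Scheme.IdealSheafData.vanishingIdeal ⟨C Z, hCcl Z⟩
    let j : I.subscheme ⟶ X := I.subschemeι
    have hj : Set.range j = C Z := by
      rw [Scheme.IdealSheafData.range_subschemeι,
        Scheme.IdealSheafData.coe_support_vanishingIdeal]
      rfl
    have hc : GeometricallyIrreducible ((j ≫ f).fiberToSpecResidueField (genericPoint ↥Y)) :=
      geometricallyIrreducible_fiber_of_closure f _ hgi Z.1 Z.2 j hj
    obtain ⟨V, hne, hV⟩ := H (j ≫ f) hc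
    refine ⟨V, hne, ?_⟩
    intro K _ q hq
    haveI : IrreducibleSpace ↥(pullback (j ≫ f) q) :=
      pullback_of_geometrically_restrict (P := (IrreducibleSpace ·)) (j ≫ f) V
        hV.geometrically_irreducibleSpace q hq
    rw [← hj, ← range_bcHom j f q, ← Set.image_univ]
    exact (IrreducibleSpace.isIrreducible_univ _).image _ (bcHom j f q).continuous.continuousOn
  choose VZ hVZne hVZ using hd
  -- (e) opens over which distinct closures are not contained in one another
  have he : ∀ Z Z' : ↥(irreducibleComponents ↥(f.fiber (genericPoint ↥Y))),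
      ∃ V : Y.Opens, (V : Set ↥Y).Nonempty ∧
        (Z ≠ Z' → (V : Set ↥Y) ⊆ f '' (C Z \ C Z')) := by
    intro Z Z'
    by_cases hZZ : Z = Z'
    · exact ⟨⊤, ⟨genericPoint ↥Y, trivial⟩, fun h => absurd hZZ h⟩
    · -- the generic point of `Z`
      have hZi : IsIrreducible Z.1 := Z.2.1
      have hZc : IsClosed Z.1 := isClosed_of_mem_irreducibleComponents Z.1 Z.2
      have hz₀ := hZi.isGenericPoint_genericPoint hZc
      set z₀ := hZi.genericPoint with hz₀def
      let ξ : ↥X := f.fiberι (genericPoint ↥Y) z₀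
      have hξZ : ξ ∈ C Z := subset_closure ⟨z₀, hz₀.mem, rfl⟩
      have hξZ' : ξ ∉ C Z' := by
        intro hmem
        have h1 : z₀ ∈ Z'.1 := by
          rw [← hCpre Z']; exact hmem
        have h2 : Z.1 ⊆ Z'.1 := by
          rw [← hz₀.def]
          exact (isClosed_of_mem_irreducibleComponents Z'.1 Z'.2).closure_subset_iff.mpr
            (Set.singleton_subset_iff.mpr h1)
        exact hZZ (Subtype.ext (h2.antisymm (Z.2.2 Z'.2.1 h2)))
      have hfξ : f ξ = genericPoint ↥Y := fiberι_mem f _ z₀
      -- an affine open around `ξ` missing `C Z'`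
      obtain ⟨W₀, ⟨W, hW, rfl⟩, hξW, hWsub⟩ :=
        X.isBasis_affineOpens.exists_subset_of_mem_open
          (show ξ ∈ (C Z')ᶜ from hξZ') (hCcl Z').isOpen_compl
      let I := Scheme.IdealSheafData.vanishingIdeal ⟨C Z, hCcl Z⟩
      let j : I.subscheme ⟶ X := I.subschemeι
      have hj : Set.range j = C Z := by
        rw [Scheme.IdealSheafData.range_subschemeι,
          Scheme.IdealSheafData.coe_support_vanishingIdeal]
        rfl
      let U : I.subscheme.Opens := j ⁻¹ᵁ W
      have hU : IsAffineOpen U := IsAffineOpen.preimage (hW : IsAffineOpen W) j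
      haveI : IsAffine ↑U := hU
      let t : (U : Scheme.{u}) ⟶ Y := U.ι ≫ j ≫ f
      have hη : genericPoint ↥Y ∈ Set.range t := by
        have : ξ ∈ Set.range j := hj ▸ hξZ
        obtain ⟨a, ha⟩ := this
        have haU : a ∈ U := by
          show j a ∈ W
          rw [ha]; exact hξW
        refine ⟨⟨a, haU⟩, ?_⟩
        show (U.ι ≫ j ≫ f) ⟨a, haU⟩ = _
        rw [Scheme.Hom.comp_apply, Scheme.Hom.comp_apply]
        show f (j a) = _
        rw [ha]; exact hfξ
      obtain ⟨V, hne, hV⟩ := exists_open_subset_range t hη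
      refine ⟨V, hne, fun _ => hV.trans ?_⟩
      rintro _ ⟨a, rfl⟩
      refine ⟨j a.1, ⟨hj ▸ ⟨a.1, rfl⟩, fun h => hWsub a.2 h⟩, ?_⟩
      show f (j a.1) = (U.ι ≫ j ≫ f) a
      rw [Scheme.Hom.comp_apply, Scheme.Hom.comp_apply]
      rfl
  choose VD hVDne hVD using he
  let V : Set ↥Y := (⋂ c, (VZ c : Set ↥Y)) ∩ ⋂ c, ⋂ c', (VD c c' : Set ↥Y)
  have hVo : IsOpen V :=
    (isOpen_iInter_of_finite fun c => (VZ c).isOpen).inter
      (isOpen_iInter_of_finite fun c => isOpen_iInter_of_finite fun c' => (VD c c').isOpen)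
  have hVη : genericPoint ↥Y ∈ V := by
    refine ⟨Set.mem_iInter.mpr fun c => genericPoint_mem_of_nonempty _ (hVZne c),
      Set.mem_iInter.mpr fun c => Set.mem_iInter.mpr fun c' =>
        genericPoint_mem_of_nonempty _ (hVDne c c')⟩
  refine ⟨⟨V, hVo⟩, hVη, ?_⟩
  intro v hv
  -- the geometric fibre over `v`
  let Ω := SeparableClosure (Y.residueField v)
  let q₀ : Spec (CommRingCat.of Ω) ⟶ Spec (Y.residueField v) :=
    Spec.map (CommRingCat.ofHom (algebraMap (Y.residueField v) Ω))
  let q : Spec (CommRingCat.of Ω) ⟶ Y := q₀ ≫ Y.fromSpecResidueField v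
  have hqv : ∀ a, q a = v := by
    intro a
    show (q₀ ≫ Y.fromSpecResidueField v) a = v
    rw [Scheme.Hom.comp_apply, Scheme.fromSpecResidueField_apply]
  have hqr : Set.range q ⊆ {v} := by
    rintro _ ⟨a, rfl⟩
    exact hqv a
  have hpaste : IsPullback (pullback.fst (f.fiberToSpecResidueField v) q₀ ≫ f.fiberι v)
      (pullback.snd (f.fiberToSpecResidueField v) q₀) f q :=
    (IsPullback.of_hasPullback (f.fiberToSpecResidueField v) q₀).paste_horiz
      (IsPullback.of_hasPullback f (Y.fromSpecResidueField v))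
  let p' : pullback (f.fiberToSpecResidueField v) q₀ ⟶ X :=
    pullback.fst (f.fiberToSpecResidueField v) q₀ ≫ f.fiberι v
  have hp'e : p' = hpaste.isoPullback.hom ≫ pullback.fst f q :=
    hpaste.isoPullback_hom_fst.symm
  have hp'range : Set.range p' = f ⁻¹' {v} := by
    rw [range_fst_of_isPullback hpaste]
    congr 1
    refine Set.Subset.antisymm hqr ?_
    rintro _ rfl
    obtain ⟨pt⟩ := (inferInstance : Nonempty ↥(Spec (CommRingCat.of Ω)))
    exact ⟨pt, hqv pt⟩
  let G : ↥(irreducibleComponents ↥(f.fiber (genericPoint ↥Y))) →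
      Set ↥(pullback (f.fiberToSpecResidueField v) q₀) :=
    fun c => ⇑p' ⁻¹' C c
  show (irreducibleComponents ↥(pullback (f.fiberToSpecResidueField v) q₀)).encard = _
  refine encard_irreducibleComponents_of_cover G ?_ ?_ ?_ ?_
  · intro c
    have h1 := hVZ c Ω q (hqr.trans (Set.singleton_subset_iff.mpr (Set.mem_iInter.mp hv.1 c)))
    show IsIrreducible (⇑p' ⁻¹' C c)
    rw [hp'e, Scheme.Hom.comp_base, TopCat.coe_comp, Set.preimage_comp]
    exact isIrreducible_preimage_of_isIso _ h1
  · intro c
    exact (hCcl c).preimage p'.continuous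
  · intro c c' hsub
    by_contra hne
    have hv2 : v ∈ (VD c c' : Set ↥Y) := Set.mem_iInter.mp (Set.mem_iInter.mp hv.2 c) c'
    obtain ⟨x, ⟨hxc, hxc'⟩, hxv⟩ := hVD c c' hne hv2
    have hx : x ∈ Set.range p' := by
      rw [hp'range]; exact hxv
    obtain ⟨g, rfl⟩ := hx
    exact hxc' (hsub hxc)
  · rw [Set.eq_univ_iff_forall]
    intro g
    obtain ⟨Z, hZ, hx⟩ := exists_mem_closure_image_component f (p' g)
    exact Set.mem_iUnion.mpr ⟨⟨Z, hZ⟩, hx⟩

end Groth.Agent.H8.GC
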