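import Mathlib
import Groth.Agent.S1334
import Groth.Agent.Lib.Helper7.FgSubalgLimit
import Groth.Agent.H8.GC.IrrConsLevel

/-!
# Local constructibility of the level sets of the count of geometric irreducible components for
morphisms of finite presentation (helper8)
-/

set_option autoImplicit false
set_option linter.style.haveILetI false
set_option linter.unusedSectionVars false

open CategoryTheory AlgebraicGeometry Limits TopologicalSpace Topology

namespace Groth.Agent.H8.GC

universe u

/-- The case of a spectrum. -/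
theorem isConstructible_nGeomIrredComp_eq_Spec (H : H419.{u}) {A : Type u} [CommRing A]
    {X : Scheme.{u}} (f : X ⟶ Spec (CommRingCat.of A))
    [LocallyOfFinitePresentation f] [QuasiCompact f] [QuasiSeparated f] (n : ℕ∞) :
    IsConstructible {y : ↥(Spec (CommRingCat.of A)) | MoreMor.nGeomIrredComp f y = n} := by
  obtain ⟨A₀, hA₀, X₀, f₀, g, -, h1, h2, h3, hpb⟩ :=
    Groth.Agent.Lib.Helper7.FgSubalgLimit.exists_model (A := A) ⊤
      (fun i X₀ f₀ _ _ _ _ => ⟨Over.mk (𝟙 i), trivial⟩) f trivial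
  haveI : Algebra.FiniteType ℤ ↥A₀ := (Subalgebra.fg_iff_finiteType A₀).mp hA₀
  haveI : IsNoetherianRing ↥A₀ := Algebra.FiniteType.isNoetherianRing ℤ ↥A₀
  haveI : LocallyOfFiniteType f₀ := inferInstance
  have hc := isConstructible_nGeomIrredComp_eq H f₀ n
  have heq : {y : ↥(Spec (CommRingCat.of A)) | MoreMor.nGeomIrredComp f y = n} =
      (Spec.map (CommRingCat.ofHom (algebraMap ↥A₀ A))) ⁻¹'
        {y₀ | MoreMor.nGeomIrredComp f₀ y₀ = n} := by
    ext y
    simp only [Set.mem_setOf_eq, Set.mem_preimage]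
    rw [Groth.Agent.S1334.result f₀ f g _ hpb y]
  rw [heq]
  exact Scheme.Hom.isConstructible_preimage _ hc

/-- The case of an affine base. -/
theorem isConstructible_nGeomIrredComp_eq_of_isAffine (H : H419.{u}) {X Y : Scheme.{u}}
    (f : X ⟶ Y) [IsAffine Y]
    [LocallyOfFinitePresentation f] [QuasiCompact f] [QuasiSeparated f] (n : ℕ∞) :
    IsConstructible {y : ↥Y | MoreMor.nGeomIrredComp f y = n} := by
  have hc := isConstructible_nGeomIrredComp_eq_Spec H (A := Γ(Y, ⊤)) (f ≫ Y.isoSpec.hom) n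
  have hpb : IsPullback (𝟙 X) f (f ≫ Y.isoSpec.hom) Y.isoSpec.hom :=
    IsPullback.of_horiz_isIso ⟨by simp⟩
  have heq : {y : ↥Y | MoreMor.nGeomIrredComp f y = n} =
      Y.isoSpec.hom ⁻¹' {z | MoreMor.nGeomIrredComp (f ≫ Y.isoSpec.hom) z = n} := by
    ext y
    simp only [Set.mem_setOf_eq, Set.mem_preimage]
    rw [Groth.Agent.S1334.result _ f (𝟙 X) _ hpb y]
  rw [heq]
  exact Scheme.Hom.isConstructible_preimage _ hc

/-- The statement of S1338, from the statement of S0419. -/
theorem isLocallyConstructible_nGeomIrredComp_eq (H : H419.{u}) {X Y : Scheme.{u}}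
    (f : X ⟶ Y) [LocallyOfFinitePresentation f] [QuasiCompact f] [QuasiSeparated f] (n : ℕ∞) :
    IsLocallyConstructible {y : ↥Y | MoreMor.nGeomIrredComp f y = n} := by
  refine IsLocallyConstructible.of_isOpenCover (U := fun i : Y.affineOpens => i.1)
    (iSup_affineOpens_eq_top Y) ?_
  intro U
  haveI : IsAffine ↑U.1 := U.2
  have hc := isConstructible_nGeomIrredComp_eq_of_isAffine H (f ∣_ U.1) n
  have hc' : IsLocallyConstructible
      {u : ↥(U.1 : Scheme.{u}) | MoreMor.nGeomIrredComp (f ∣_ U.1) u = n} :=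
    hc.isLocallyConstructible
  have hS : ∀ u : ↥(U.1 : Scheme.{u}),
      MoreMor.nGeomIrredComp (f ∣_ U.1) u = MoreMor.nGeomIrredComp f (U.1.ι u) := fun u =>
    Groth.Agent.S1334.result f (f ∣_ U.1) _ _ (isPullback_morphismRestrict f U.1).flip u
  simp only [hS] at hc'
  exact hc'

end Groth.Agent.H8.GC
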