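import Mathlib
import Groth.Agent.Lib.Helper23.GeomRedDescent
import Groth.Agent.Lib.Helper13.FibreDimDescent
import Groth.Agent.Lib.Helper12.ConstrTop
import Groth.Agent.H8.GC.IrrConsLevel

/-!
# Noetherian approximation preserving geometric irreducibility of the fibres (helper8)

Pattern of `Groth.Agent.Lib.Helper23.GeomRedDescent` (EGA IV 9.7.7 + 8.x), with the locus of
geometrically irreducible fibres; modulo the statement of S0419.
-/

set_option autoImplicit false
set_option linter.style.haveILetI false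
set_option linter.unusedSectionVars false

universe u
open TensorProduct

namespace Groth.Agent.H8.GC

open AlgebraicGeometry CategoryTheory Limits TopologicalSpace Topology
open Groth.Agent.Lib.Helper23.GeomRedDescent

/-- A morphism is geometrically irreducible iff all its fibres are. -/
theorem geometricallyIrreducible_iff_Eirr_eq_univ {X S : Scheme.{u}} (f : X ⟶ S) :
    GeometricallyIrreducible f ↔ Eirr f = Set.univ := by
  rw [GeometricallyIrreducible.iff_geometricallyIrreducible_fiber, Set.eq_univ_iff_forall]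
  rfl

section BaseChange

variable (A₁ A' B₁ : Type u) [CommRing A₁] [CommRing A'] [CommRing B₁] [Algebra A₁ A']
  [Algebra A₁ B₁]

/-- The locus of geometrically irreducible fibres of a base change is the preimage of the locus. -/
theorem Eirr_specAlg_tensor :
    Eirr (specAlg A' (A' ⊗[A₁] B₁)) = (specAlg A₁ A') ⁻¹' Eirr (specAlg A₁ B₁) := by
  ext y
  exact mem_Eirr_iff_of_isPullback (isPullback_specAlg_tensor A₁ A' B₁) y

theorem isConstructible_Eirr_specAlg (H : H419.{u}) [Algebra.FiniteType A₁ B₁]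
    [IsNoetherianRing A₁] :
    IsConstructible (Eirr (specAlg A₁ B₁)) := by
  haveI : LocallyOfFiniteType (specAlg A₁ B₁) := by
    rw [HasRingHomProperty.Spec_iff (P := @LocallyOfFiniteType)]
    exact RingHom.finiteType_algebraMap.mpr inferInstance
  exact isConstructible_Eirr H (specAlg A₁ B₁)

end BaseChange

section Descent

variable {A₁ A B₁ : Type u} [CommRing A₁] [CommRing A] [CommRing B₁] [Algebra A₁ A]
  [Algebra A₁ B₁] [Algebra.FiniteType A₁ B₁] [IsNoetherianRing A₁]

/-- If the base change of `B₁` to `A` is geometrically irreducible, so is the base change to a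
finitely generated `A₁`-subalgebra of `A`. -/
theorem exists_finset_geometricallyIrreducible (H : H419.{u})
    (h : GeometricallyIrreducible (specAlg A (A ⊗[A₁] B₁))) :
    ∃ s : Finset A, GeometricallyIrreducible
      (specAlg (Algebra.adjoin A₁ (s : Set A)) (Algebra.adjoin A₁ (s : Set A) ⊗[A₁] B₁)) := by
  classical
  set E₀ : Set (PrimeSpectrum A₁) := Eirr (specAlg A₁ B₁) with hE₀
  have hE₀c : IsConstructible E₀ := isConstructible_Eirr_specAlg A₁ B₁ H
  have hrange : Set.range (PrimeSpectrum.comap (algebraMap A₁ A)) ⊆ E₀ := by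
    rintro _ ⟨p, rfl⟩
    have h1 := (geometricallyIrreducible_iff_Eirr_eq_univ _).mp h
    rw [Eirr_specAlg_tensor A₁ A B₁] at h1
    have : p ∈ (specAlg A₁ A) ⁻¹' Eirr (specAlg A₁ B₁) := by
      rw [h1]; trivial
    exact this
  let E : Finset A → Set (PrimeSpectrum A₁) := fun s =>
    E₀ ∪ (Set.range (PrimeSpectrum.comap
      (algebraMap A₁ (Algebra.adjoin A₁ (s : Set A)))))ᶜ
  have hmono : Monotone E := by
    intro s s' hss'
    refine Set.union_subset_union_right _ (Set.compl_subset_compl.mpr ?_)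
    rintro _ ⟨q, rfl⟩
    have hle : Algebra.adjoin A₁ (s : Set A) ≤ Algebra.adjoin A₁ (s' : Set A) :=
      Algebra.adjoin_mono (by exact_mod_cast hss')
    refine ⟨PrimeSpectrum.comap (Subalgebra.inclusion hle).toRingHom q, ?_⟩
    rw [← PrimeSpectrum.comap_comp_apply]
    congr 2
  have hE : ∀ s, IsConstructible (E s) := by
    intro s
    refine hE₀c.union (IsConstructible.compl ?_)
    apply PrimeSpectrum.isConstructible_range_comap
    rw [RingHom.finitePresentation_algebraMap]
    haveI : Algebra.FiniteType A₁ (Algebra.adjoin A₁ (s : Set A)) :=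
      (Subalgebra.fg_iff_finiteType _).mp (Subalgebra.fg_adjoin_finset s)
    exact Algebra.FinitePresentation.of_finiteType.mp inferInstance
  have hirr : ∀ Y : Set (PrimeSpectrum A₁), IsClosed Y → IsIrreducible Y →
      ∃ s, Y ⊆ closure (E s ∩ Y) := by
    intro Y hYc hYi
    have hη := hYi.isGenericPoint_genericPoint hYc
    set η := hYi.genericPoint with hηdef
    have hsuff : ∀ s, η ∈ E s → Y ⊆ closure (E s ∩ Y) := by
      intro s hs
      have h1 : ({η} : Set _) ⊆ E s ∩ Y := Set.singleton_subset_iff.2 ⟨hs, hη.mem⟩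
      calc Y = closure {η} := hη.def.symm
        _ ⊆ closure (E s ∩ Y) := closure_mono h1
    by_cases hηE : η ∈ E₀
    · exact ⟨∅, hsuff ∅ (Or.inl hηE)⟩
    · have hηr : η ∉ Set.range (PrimeSpectrum.comap (algebraMap A₁ A)) :=
        fun h => hηE (hrange h)
      obtain ⟨s, hs⟩ :=
        Groth.Agent.Lib.Helper13.FibreDimDescent.exists_finset_notMem_range_comap η hηr
      exact ⟨s, hsuff s (Or.inr hs)⟩
  obtain ⟨s, hs⟩ := Groth.Agent.Lib.Helper12.ConstrTop.eq_of_directed_constructible_cover
    E hmono hE hirr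
  have hsub : Set.range (PrimeSpectrum.comap
      (algebraMap A₁ (Algebra.adjoin A₁ (s : Set A)))) ⊆ E₀ := by
    intro q hq
    have : q ∈ E s := hs ▸ Set.mem_univ q
    rcases this with h | h
    · exact h
    · exact absurd hq h
  refine ⟨s, ?_⟩
  rw [geometricallyIrreducible_iff_Eirr_eq_univ, Eirr_specAlg_tensor, Set.eq_univ_iff_forall]
  intro p
  exact hsub ⟨p, rfl⟩

end Descent

section Model

/-- Transport along an isomorphism of algebras. -/
theorem geometricallyIrreducible_specAlg_of_algEquiv {A B B' : Type u} [CommRing A] [CommRing B]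
    [CommRing B'] [Algebra A B] [Algebra A B'] (e : B ≃ₐ[A] B')
    (h : GeometricallyIrreducible (specAlg A B)) : GeometricallyIrreducible (specAlg A B') := by
  have h1 : specAlg A B' = Spec.map (e.toRingEquiv.toCommRingCatIso.hom) ≫ specAlg A B := by
    rw [specAlg, specAlg, ← Spec.map_comp]
    congr 1
    ext x
    simp
  rw [h1]
  exact (MorphismProperty.cancel_left_of_respectsIso @GeometricallyIrreducible _ _).mpr h

variable {A B : Type u} [CommRing A] [CommRing B] [Algebra A B] [Algebra.FinitePresentation A B]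

/-- Noetherian descent of a finitely presented algebra with geometrically irreducible fibres: the
model over a finitely generated `ℤ`-algebra can be chosen with the same property. -/
theorem exists_model_geometricallyIrreducible (H : H419.{u})
    (h : GeometricallyIrreducible (specAlg A B)) :
    ∃ (A₁ : Type u) (_ : CommRing A₁) (_ : Algebra A₁ A) (B₁ : Type u) (_ : CommRing B₁)
      (_ : Algebra A₁ B₁), Algebra.FiniteType ℤ A₁ ∧ Algebra.FinitePresentation A₁ B₁ ∧
      Nonempty (A ⊗[A₁] B₁ ≃ₐ[A] B) ∧ GeometricallyIrreducible (specAlg A₁ B₁) := by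
  classical
  let P := Algebra.Presentation.ofFinitePresentation A B
  haveI : IsNoetherianRing P.Core := Algebra.FiniteType.isNoetherianRing ℤ P.Core
  have h0 : GeometricallyIrreducible (specAlg A (A ⊗[P.Core] P.ModelOfHasCoeffs P.Core)) :=
    geometricallyIrreducible_specAlg_of_algEquiv (P.tensorModelOfHasCoeffsEquiv P.Core).symm h
  haveI : Algebra.FiniteType P.Core (P.ModelOfHasCoeffs P.Core) :=
    Algebra.FiniteType.of_finitePresentation
  obtain ⟨s, hs⟩ := exists_finset_geometricallyIrreducible (A₁ := P.Core) (A := A)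
    (B₁ := P.ModelOfHasCoeffs P.Core) H h0
  haveI : Algebra.FiniteType P.Core (Algebra.adjoin P.Core (s : Set A)) :=
    (Subalgebra.fg_iff_finiteType _).mp (Subalgebra.fg_adjoin_finset s)
  refine ⟨Algebra.adjoin P.Core (s : Set A), inferInstance, inferInstance,
    (Algebra.adjoin P.Core (s : Set A)) ⊗[P.Core] P.ModelOfHasCoeffs P.Core, inferInstance,
    inferInstance, ?_, inferInstance, ⟨?_⟩, hs⟩
  · exact Algebra.FiniteType.trans (S := P.Core) inferInstance inferInstance
  · exact (Algebra.TensorProduct.cancelBaseChange P.Core (Algebra.adjoin P.Core (s : Set A)) A A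
      (P.ModelOfHasCoeffs P.Core)).trans (P.tensorModelOfHasCoeffsEquiv P.Core)

end Model

section Scheme

/-- The statement of S1462, from the statement of S0419. -/
theorem exists_noetherian_model_geometricallyIrreducible (H : H419.{u}) {X S : Scheme.{u}}
    (f : X ⟶ S) [IsAffine X] [IsAffine S]
    [LocallyOfFinitePresentation f] [GeometricallyIrreducible f] :
    ∃ (X₀ S₀ : Scheme.{u}) (f₀ : X₀ ⟶ S₀) (g : S ⟶ S₀) (g' : X ⟶ X₀), IsAffine X₀ ∧ IsAffine S₀ ∧
      IsPullback g' f f₀ g ∧
      Algebra.FiniteType ℤ Γ(S₀, ⊤) ∧ LocallyOfFiniteType f₀ ∧ GeometricallyIrreducible f₀ := by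
  classical
  letI : Algebra Γ(S, ⊤) Γ(X, ⊤) := (f.appLE ⊤ ⊤ le_top).hom.toAlgebra
  haveI : Algebra.FinitePresentation Γ(S, ⊤) Γ(X, ⊤) :=
    f.finitePresentation_appLE (isAffineOpen_top S) (isAffineOpen_top X) le_top
  have hφ : (CommRingCat.ofHom (algebraMap Γ(S, ⊤) Γ(X, ⊤))) = f.appTop := by
    ext x
    show (f.appLE ⊤ ⊤ le_top).hom x = f.appTop.hom x
    simp [Scheme.Hom.appLE, Scheme.Hom.appTop]
  have hgr : GeometricallyIrreducible (specAlg Γ(S, ⊤) Γ(X, ⊤)) := by
    show GeometricallyIrreducible (Spec.map (CommRingCat.ofHom (algebraMap Γ(S, ⊤) Γ(X, ⊤))))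
    rw [hφ]
    exact ((MorphismProperty.arrow_mk_iso_iff @GeometricallyIrreducible
      (arrowIsoSpecΓOfIsAffine f)).mp inferInstance)
  obtain ⟨A₁, _, _, B₁, _, _, hft, hfp, ⟨ε⟩, hδ⟩ :=
    exists_model_geometricallyIrreducible (A := Γ(S, ⊤)) (B := Γ(X, ⊤)) H hgr
  let β : B₁ →+* Γ(X, ⊤) :=
    (ε.toAlgHom.toRingHom).comp (Algebra.TensorProduct.includeRight :
      B₁ →ₐ[A₁] Γ(S, ⊤) ⊗[A₁] B₁).toRingHom
  refine ⟨Spec (.of B₁), Spec (.of A₁), Spec.map (CommRingCat.ofHom (algebraMap A₁ B₁)),
    S.isoSpec.hom ≫ Spec.map (CommRingCat.ofHom (algebraMap A₁ Γ(S, ⊤))),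
    X.isoSpec.hom ≫ Spec.map (CommRingCat.ofHom β), inferInstance, inferInstance, ?_, ?_, ?_, hδ⟩
  · -- the pullback square
    have hpush : IsPushout (CommRingCat.ofHom (algebraMap A₁ Γ(S, ⊤)))
        (CommRingCat.ofHom (algebraMap A₁ B₁))
        (CommRingCat.ofHom (algebraMap Γ(S, ⊤) Γ(X, ⊤))) (CommRingCat.ofHom β) := by
      refine (CommRingCat.isPushout_tensorProduct A₁ Γ(S, ⊤) B₁).of_iso (Iso.refl _) (Iso.refl _)
        (Iso.refl _) ε.toRingEquiv.toCommRingCatIso (by simp) (by simp) ?_ ?_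
      · ext x
        show ε (x ⊗ₜ[A₁] (1 : B₁)) = algebraMap Γ(S, ⊤) Γ(X, ⊤) x
        have hx1 : (x ⊗ₜ[A₁] (1 : B₁) : Γ(S, ⊤) ⊗[A₁] B₁) = x • (1 : Γ(S, ⊤) ⊗[A₁] B₁) := by
          rw [Algebra.TensorProduct.one_def, TensorProduct.smul_tmul', smul_eq_mul, mul_one]
        rw [hx1, map_smul, map_one, Algebra.smul_def, mul_one]
      · ext x
        rfl
    have hpb := (isPullback_SpecMap_of_isPushout _ _ _ _ hpush).flip
    refine IsPullback.of_iso hpb X.isoSpec.symm (Iso.refl _) S.isoSpec.symm (Iso.refl _)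
      ?_ ?_ ?_ ?_
    · simp
    · rw [hφ, Iso.symm_hom, Iso.symm_hom, Iso.comp_inv_eq, Category.assoc,
        ← Scheme.isoSpec_hom_naturality, Iso.inv_hom_id_assoc]
    · simp
    · simp
  · exact hft.equiv (Scheme.ΓSpecIso (.of A₁)).symm.commRingCatIsoToRingEquiv.toIntAlgEquiv
  · rw [HasRingHomProperty.Spec_iff (P := @LocallyOfFiniteType)]
    exact RingHom.finiteType_algebraMap.mpr (Algebra.FiniteType.of_finitePresentation)

end Scheme

end Groth.Agent.H8.GC
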