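import Mathlib

/-!
# Topological lemmas on the components of the fibres met by a section (helper8)
-/

set_option autoImplicit false
set_option linter.style.haveILetI false
set_option linter.unusedSectionVars false

open TopologicalSpace Topology

namespace Groth.Agent.H8.GC

/-- A preconnected relatively clopen subset containing `x` is the connected component of `x`. -/
theorem connectedComponentIn_eq_of_closed_cover {T : Type*} [TopologicalSpace T] {F A B : Set T}
    {x : T} (hx : x ∈ F) (hxA : x ∈ A) (hA : IsClosed A) (hB : IsClosed B)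
    (hcov : F ⊆ A ∪ B) (hdisj : F ∩ A ∩ B = ∅) (hconn : IsPreconnected (F ∩ A)) :
    connectedComponentIn F x = F ∩ A := by
  apply Set.Subset.antisymm
  · have hK : IsPreconnected (connectedComponentIn F x) := isPreconnected_connectedComponentIn
    have hKF : connectedComponentIn F x ⊆ F := connectedComponentIn_subset F x
    intro k hk
    refine ⟨hKF hk, ?_⟩
    by_contra hkA
    have hkB : k ∈ B := (hcov (hKF hk)).resolve_left hkA
    obtain ⟨w, hwK, hwA, hwB⟩ := isPreconnected_closed_iff.mp hK A B hA hB (hKF.trans hcov)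
      ⟨x, mem_connectedComponentIn hx, hxA⟩ ⟨k, hk, hkB⟩
    have : w ∈ F ∩ A ∩ B := ⟨⟨hKF hwK, hwA⟩, hwB⟩
    rw [hdisj] at this
    exact this
  · exact hconn.subset_connectedComponentIn ⟨hx, hxA⟩ Set.inter_subset_left

/-- Connected components of a space with finitely many connected components are clopen. -/
theorem isClopen_connectedComponent_of_finite {T : Type*} [TopologicalSpace T]
    [Finite (ConnectedComponents T)] (x : T) : IsClopen (connectedComponent x) := by
  refine ⟨isClosed_connectedComponent, ?_⟩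
  have hcompl : (connectedComponent x)ᶜ =
      ⋃ c ∈ ({ConnectedComponents.mk x}ᶜ : Set (ConnectedComponents T)),
        ConnectedComponents.mk ⁻¹' {c} := by
    ext z
    simp only [Set.mem_compl_iff, Set.mem_iUnion, Set.mem_preimage, Set.mem_singleton_iff,
      exists_prop, exists_eq_right']
    rw [← ConnectedComponents.coe_eq_coe']
  rw [← isClosed_compl_iff, hcompl]
  refine Set.Finite.isClosed_biUnion (Set.toFinite _) ?_
  intro c _
  obtain ⟨z, rfl⟩ := ConnectedComponents.surjective_coe c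
  rw [connectedComponents_preimage_singleton]
  exact isClosed_connectedComponent

section

variable {α β : Type*} [TopologicalSpace α] [TopologicalSpace β]

/-- The components of the fibres of `f` met by the section `s` (topological version). -/
def secComp (f : α → β) (s : β → α) : Set α :=
  {x | x ∈ connectedComponentIn (f ⁻¹' {f x}) (s (f x))}

/-- Over `V`, the source is covered by two closed sets, disjoint over `V`, the first of which
meets each fibre over `V` in a preconnected set containing the value of the section. -/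
def SecSplit (f : α → β) (s : β → α) (V : Set β) : Prop :=
  ∃ Z₀ Z₁ : Set α, IsClosed Z₀ ∧ IsClosed Z₁ ∧ f ⁻¹' V ⊆ Z₀ ∪ Z₁ ∧ Z₀ ∩ Z₁ ∩ f ⁻¹' V = ∅ ∧
    ∀ v ∈ V, IsPreconnected (Z₀ ∩ f ⁻¹' {v}) ∧ s v ∈ Z₀

theorem SecSplit.mem_secComp_iff {f : α → β} {s : β → α} (hs : ∀ y, f (s y) = y) {V : Set β}
    {Z₀ Z₁ : Set α} (hZ₀ : IsClosed Z₀) (hZ₁ : IsClosed Z₁) (hcov : f ⁻¹' V ⊆ Z₀ ∪ Z₁)
    (hdisj : Z₀ ∩ Z₁ ∩ f ⁻¹' V = ∅)
    (hV : ∀ v ∈ V, IsPreconnected (Z₀ ∩ f ⁻¹' {v}) ∧ s v ∈ Z₀) {x : α} (hx : f x ∈ V) :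
    x ∈ secComp f s ↔ x ∈ Z₀ := by
  have hsub : f ⁻¹' {f x} ⊆ f ⁻¹' V := by
    intro a ha
    show f a ∈ V
    rw [show f a = f x from ha]; exact hx
  have key : connectedComponentIn (f ⁻¹' {f x}) (s (f x)) = f ⁻¹' {f x} ∩ Z₀ := by
    refine connectedComponentIn_eq_of_closed_cover (B := Z₁) (hs (f x)) (hV _ hx).2 hZ₀ hZ₁
      (hsub.trans hcov) ?_ ?_
    · rw [Set.eq_empty_iff_forall_notMem]
      rintro a ⟨⟨ha, ha0⟩, ha1⟩
      have : a ∈ Z₀ ∩ Z₁ ∩ f ⁻¹' V := ⟨⟨ha0, ha1⟩, hsub ha⟩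
      rw [hdisj] at this
      exact this
    · rw [Set.inter_comm]; exact (hV _ hx).1
  show x ∈ connectedComponentIn (f ⁻¹' {f x}) (s (f x)) ↔ _
  rw [key]
  exact ⟨fun h => h.2, fun h => ⟨rfl, h⟩⟩

theorem SecSplit.isClopen {f : α → β} {s : β → α} (hs : ∀ y, f (s y) = y) {V : Set β}
    (h : SecSplit f s V) :
    IsClopen (Subtype.val ⁻¹' secComp f s : Set ↥(f ⁻¹' V)) := by
  obtain ⟨Z₀, Z₁, hZ₀, hZ₁, hcov, hdisj, hV⟩ := h
  have h0 : (Subtype.val ⁻¹' secComp f s : Set ↥(f ⁻¹' V)) = Subtype.val ⁻¹' Z₀ := by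
    ext ⟨x, hx⟩
    exact SecSplit.mem_secComp_iff hs hZ₀ hZ₁ hcov hdisj hV hx
  have h1 : (Subtype.val ⁻¹' Z₀ : Set ↥(f ⁻¹' V)) = (Subtype.val ⁻¹' Z₁)ᶜ := by
    ext ⟨x, hx⟩
    simp only [Set.mem_preimage, Set.mem_compl_iff]
    constructor
    · intro hx0 hx1
      have : x ∈ Z₀ ∩ Z₁ ∩ f ⁻¹' V := ⟨⟨hx0, hx1⟩, hx⟩
      rw [hdisj] at this
      exact this
    · intro hx1
      exact (hcov hx).resolve_right hx1
  rw [h0]
  refine ⟨hZ₀.preimage continuous_subtype_val, ?_⟩
  rw [h1]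
  exact (hZ₁.preimage continuous_subtype_val).isOpen_compl

variable {α' β' : Type*} [TopologicalSpace α'] [TopologicalSpace β']

theorem SecSplit.transfer {f : α → β} {s : β → α} {f' : α' → β'} {s' : β' → α'} {g' : α' → α}
    {g : β' → β} (hg' : IsEmbedding g') (hg : Function.Injective g)
    (hcomm : ∀ x', f (g' x') = g (f' x')) (hrange : Set.range g' = f ⁻¹' Set.range g)
    (hs : ∀ y', s (g y') = g' (s' y')) {V' : Set β'} (h : SecSplit f' s' V') :
    SecSplit f s (g '' V') := by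
  obtain ⟨Z₀, Z₁, hZ₀, hZ₁, hcov, hdisj, hV⟩ := h
  have hpre : ∀ Z : Set α', IsClosed Z → g' ⁻¹' closure (g' '' Z) = Z := by
    intro Z hZ
    rw [← hg'.isInducing.closure_eq_preimage_closure_image, hZ.closure_eq]
  have hfib : ∀ x : α, f x ∈ g '' V' → ∃ x', g' x' = x ∧ f' x' ∈ V' := by
    rintro x ⟨v', hv', hv'x⟩
    have hx : x ∈ Set.range g' := by
      rw [hrange]; exact ⟨v', hv'x⟩
    obtain ⟨x', rfl⟩ := hx
    refine ⟨x', rfl, ?_⟩
    have : g (f' x') = g v' := by rw [← hcomm, hv'x]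
    rw [hg this]; exact hv'
  refine ⟨closure (g' '' Z₀), closure (g' '' Z₁), isClosed_closure, isClosed_closure, ?_, ?_, ?_⟩
  · intro x hx
    obtain ⟨x', rfl, hx'⟩ := hfib x hx
    rcases hcov hx' with h0 | h1
    · exact Or.inl (subset_closure ⟨x', h0, rfl⟩)
    · exact Or.inr (subset_closure ⟨x', h1, rfl⟩)
  · rw [Set.eq_empty_iff_forall_notMem]
    rintro x ⟨⟨hx0, hx1⟩, hx⟩
    obtain ⟨x', rfl, hx'⟩ := hfib x hx
    have h0 : x' ∈ Z₀ := by rw [← hpre Z₀ hZ₀]; exact hx0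
    have h1 : x' ∈ Z₁ := by rw [← hpre Z₁ hZ₁]; exact hx1
    have : x' ∈ Z₀ ∩ Z₁ ∩ f' ⁻¹' V' := ⟨⟨h0, h1⟩, hx'⟩
    rw [hdisj] at this
    exact this
  · rintro _ ⟨v', hv', rfl⟩
    obtain ⟨hc, hsv⟩ := hV v' hv'
    constructor
    · have heq : closure (g' '' Z₀) ∩ f ⁻¹' {g v'} = g' '' (Z₀ ∩ f' ⁻¹' {v'}) := by
        ext x
        constructor
        · rintro ⟨hx0, hx⟩
          have hx2 : f x ∈ g '' V' := ⟨v', hv', hx.symm⟩
          obtain ⟨x', rfl, -⟩ := hfib x hx2
          have h0 : x' ∈ Z₀ := by rw [← hpre Z₀ hZ₀]; exact hx0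
          refine ⟨x', ⟨h0, ?_⟩, rfl⟩
          have : g (f' x') = g v' := by rw [← hcomm]; exact hx
          exact hg this
        · rintro ⟨x', ⟨h0, hx'⟩, rfl⟩
          refine ⟨subset_closure ⟨x', h0, rfl⟩, ?_⟩
          show f (g' x') = g v'
          rw [hcomm, show f' x' = v' from hx']
      rw [heq]
      exact hc.image _ hg'.continuous.continuousOn
    · rw [hs]
      exact subset_closure ⟨s' v', hsv, rfl⟩

end

end Groth.Agent.H8.GC
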