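import Mathlib
import Groth.Prelude
import Groth.Agent.S4619
import Groth.Agent.S0420
import Groth.Agent.H8.GC.SecTop
import Groth.Agent.H8.GC.CountPieces

/-!
# The components of the fibres met by a section: spreading out from the generic fibre, flat case
(helper8)
-/

set_option autoImplicit false
set_option linter.style.haveILetI false
set_option linter.unusedSectionVars false

open CategoryTheory AlgebraicGeometry Limits TopologicalSpace

namespace Groth.Agent.H8.GC

universe u

/-- A connected scheme over a field with a rational point is geometrically connected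
(from S4619; same proof as helper41's `geometricallyConnected_of_section`). -/
theorem geometricallyConnected_of_rational {k : Type u} [Field k] {X : Scheme.{u}}
    [ConnectedSpace X]
    (f : X ⟶ Spec (CommRingCat.of k)) (e : Spec (CommRingCat.of k) ⟶ X) (he : e ≫ f = 𝟙 _) :
    GeometricallyConnected f := by
  let x : X := e (IsLocalRing.closedPoint k)
  let θ : X.residueField x ⟶ CommRingCat.of k :=
    Scheme.descResidueField (Scheme.stalkClosedPointTo e)
  have hθ : Spec.map θ ≫ X.fromSpecResidueField x = e :=
    Scheme.descResidueField_stalkClosedPointTo_fromSpecResidueField k X e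
  let ψ : CommRingCat.of k ⟶ X.residueField x := Spec.preimage (X.fromSpecResidueField x ≫ f)
  have hψ : Spec.map ψ = X.fromSpecResidueField x ≫ f := Spec.map_preimage _
  have hψθ : ψ ≫ θ = 𝟙 _ := by
    apply Spec.map_injective
    rw [Spec.map_comp, hψ, ← Category.assoc, hθ, he, Spec.map_id]
  have hθφ : ∀ a : k, θ.hom (ψ.hom a) = a := by
    intro a
    have := congrArg (fun g => g.hom a) hψθ
    exact this
  have hθinj : Function.Injective θ.hom := θ.hom.injective
  have hsurj : Function.Surjective ψ.hom := by
    intro b
    refine ⟨θ.hom b, ?_⟩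
    apply hθinj
    rw [hθφ]
  refine Groth.Agent.S4619.result f x ⟨ψ.hom, hψ, ?_⟩
  letI := ψ.hom.toAlgebra
  change separableClosure k (X.residueField x) = ⊥
  rw [eq_bot_iff]
  intro b _
  rw [IntermediateField.mem_bot]
  exact hsurj b

/-- The connected component of a rational point of a scheme over a field (with finitely many
connected components) has connected preimage in every base change to a field. -/
theorem isConnected_preimage_connectedComponent_of_rational {L : Type u} [Field L]
    {F : Scheme.{u}} [Finite (_root_.ConnectedComponents ↥F)]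
    (sF : F ⟶ Spec (CommRingCat.of L)) (σ : Spec (CommRingCat.of L) ⟶ F) (hσ : σ ≫ sF = 𝟙 _)
    (z₀ : ↥F) (hz₀ : Set.range σ ⊆ connectedComponent z₀)
    (K : Type u) [Field K] [Algebra L K] :
    _root_.IsConnected (⇑(pullback.fst sF (Spec.map (CommRingCat.ofHom (algebraMap L K)))) ⁻¹'
      connectedComponent z₀) := by
  let U₀ : F.Opens := ⟨connectedComponent z₀, (isClopen_connectedComponent_of_finite z₀).2⟩
  haveI : ConnectedSpace ↥(U₀ : Scheme.{u}) :=
    isConnected_iff_connectedSpace.mp (isConnected_connectedComponent (x := z₀))
  have hr : Set.range σ ⊆ Set.range U₀.ι := by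
    rw [Scheme.Opens.range_ι]; exact hz₀
  let e : Spec (CommRingCat.of L) ⟶ (U₀ : Scheme.{u}) := IsOpenImmersion.lift U₀.ι σ hr
  have he : e ≫ U₀.ι = σ := IsOpenImmersion.lift_fac _ _ _
  have hgc : GeometricallyConnected (U₀.ι ≫ sF) :=
    geometricallyConnected_of_rational (U₀.ι ≫ sF) e (by rw [← Category.assoc, he, hσ])
  set q := Spec.map (CommRingCat.ofHom (algebraMap L K)) with hq
  haveI : ConnectedSpace ↥(pullback (U₀.ι ≫ sF) q) :=
    hgc.geometrically_connectedSpace q _ _ (IsPullback.of_hasPullback _ _)
  have hrange := range_bcHom U₀.ι sF q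
  rw [Scheme.Opens.range_ι] at hrange
  show _root_.IsConnected (⇑(pullback.fst sF q) ⁻¹' (U₀ : Set ↥F))
  rw [← hrange, ← Set.image_univ]
  exact (connectedSpace_iff_univ.mp inferInstance).image _
    (bcHom U₀.ι sF q).continuous.continuousOn

end Groth.Agent.H8.GC
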