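import Mathlib
import Groth.Prelude
import Groth.Agent.H8.GC.SecCore

/-!
# The components of the fibres met by a section: flat case over an irreducible base (helper8)
-/

set_option autoImplicit false
set_option linter.style.haveILetI false
set_option linter.unusedSectionVars false

open CategoryTheory AlgebraicGeometry Limits TopologicalSpace

namespace Groth.Agent.H8.GC

universe u

theorem secSplit_of_flat {X Y : Scheme.{u}} (f : X ⟶ Y) (s : Y ⟶ X) (hs : s ≫ f = 𝟙 Y)
    [IrreducibleSpace ↥Y] [Flat f] [LocallyOfFiniteType f] [QuasiCompact f] :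
    ∃ V : Y.Opens, genericPoint ↥Y ∈ V ∧ SecSplit (⇑f) (⇑s) (V : Set ↥Y) := by
  classical
  have hfs : ∀ y : ↥Y, f (s y) = y := by
    intro y
    rw [← Scheme.Hom.comp_apply, hs]; rfl
  haveI := finite_connectedComponents_fiber f (genericPoint ↥Y)
  -- the point of the generic fibre given by the section
  have hsη : s (genericPoint ↥Y) ∈ Set.range (f.fiberι (genericPoint ↥Y)) := by
    rw [f.range_fiberι]; exact hfs _
  obtain ⟨z₀, hz₀⟩ := hsη
  let C₀ : Set ↥(f.fiber (genericPoint ↥Y)) := connectedComponent z₀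
  have hC₀ : IsClopen C₀ := isClopen_connectedComponent_of_finite z₀
  let Z₀ : Set ↥X := closure (f.fiberι (genericPoint ↥Y) '' C₀)
  let Z₁ : Set ↥X := closure (f.fiberι (genericPoint ↥Y) '' C₀ᶜ)
  have hpre₀ : f.fiberι (genericPoint ↥Y) ⁻¹' Z₀ = C₀ :=
    preimage_closure_image_fiberι f _ C₀ hC₀.1
  have hpre₁ : f.fiberι (genericPoint ↥Y) ⁻¹' Z₁ = C₀ᶜ :=
    preimage_closure_image_fiberι f _ C₀ᶜ hC₀.2.isClosed_compl
  have hcov : ∀ x : ↥X, x ∈ Z₀ ∪ Z₁ := by
    intro x
    obtain ⟨z, hz⟩ := exists_fiberι_specializes f x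
    by_cases hzC : z ∈ C₀
    · left
      exact isClosed_closure.closure_subset_iff.mpr
        (Set.singleton_subset_iff.mpr (subset_closure (Set.mem_image_of_mem _ hzC)))
        (specializes_iff_mem_closure.mp hz)
    · right
      exact isClosed_closure.closure_subset_iff.mpr
        (Set.singleton_subset_iff.mpr (subset_closure (Set.mem_image_of_mem _ hzC)))
        (specializes_iff_mem_closure.mp hz)
  -- an open over which `Z₀` and `Z₁` are disjoint
  obtain ⟨V₁, hV₁ne, hV₁⟩ : ∃ V : Y.Opens, (V : Set ↥Y).Nonempty ∧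
      Disjoint (V : Set ↥Y) (f '' (Z₀ ∩ Z₁)) := by
    let I := Scheme.IdealSheafData.vanishingIdeal ⟨Z₀ ∩ Z₁, isClosed_closure.inter isClosed_closure⟩
    let j : I.subscheme ⟶ X := I.subschemeι
    have hj : Set.range j = Z₀ ∩ Z₁ := by
      rw [Scheme.IdealSheafData.range_subschemeι,
        Scheme.IdealSheafData.coe_support_vanishingIdeal]
      rfl
    have hη : genericPoint ↥Y ∉ Set.range (j ≫ f) := by
      rintro ⟨a, ha⟩
      rw [Scheme.Hom.comp_apply] at ha
      have hx : j a ∈ Set.range (f.fiberι (genericPoint ↥Y)) := by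
        rw [f.range_fiberι]; exact ha
      obtain ⟨z, hz⟩ := hx
      have hja : j a ∈ Z₀ ∩ Z₁ := hj ▸ ⟨a, rfl⟩
      rw [← hz] at hja
      have h1 : z ∈ C₀ := by rw [← hpre₀]; exact hja.1
      have h2 : z ∈ C₀ᶜ := by rw [← hpre₁]; exact hja.2
      exact h2 h1
    obtain ⟨V, hne, hV⟩ := exists_open_disjoint_range (j ≫ f) hη
    refine ⟨V, hne, ?_⟩
    have hr : Set.range (j ≫ f) = f '' (Z₀ ∩ Z₁) := by
      rw [Scheme.Hom.comp_base, TopCat.coe_comp, Set.range_comp, hj]
    rw [← hr]; exact hV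
  -- an open over which `Z₀` has connected fibres
  obtain ⟨V₂, hV₂ne, hV₂⟩ : ∃ V : Y.Opens, (V : Set ↥Y).Nonempty ∧
      ∀ v ∈ V, IsPreconnected (Z₀ ∩ ⇑f ⁻¹' {v}) := by
    let I := Scheme.IdealSheafData.vanishingIdeal ⟨Z₀, isClosed_closure⟩
    let j : I.subscheme ⟶ X := I.subschemeι
    have hj : Set.range j = Z₀ := by
      rw [Scheme.IdealSheafData.range_subschemeι,
        Scheme.IdealSheafData.coe_support_vanishingIdeal]
      rfl
    -- the rational point of the generic fibre
    let σ : Spec (Y.residueField (genericPoint ↥Y)) ⟶ f.fiber (genericPoint ↥Y) :=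
      pullback.lift (Y.fromSpecResidueField (genericPoint ↥Y) ≫ s) (𝟙 _)
        (by rw [Category.assoc, hs, Category.comp_id, Category.id_comp])
    have hσ : σ ≫ f.fiberToSpecResidueField (genericPoint ↥Y) = 𝟙 _ := pullback.lift_snd _ _ _
    have hσι : σ ≫ f.fiberι (genericPoint ↥Y) = Y.fromSpecResidueField (genericPoint ↥Y) ≫ s :=
      pullback.lift_fst _ _ _
    have hσr : Set.range σ ⊆ connectedComponent z₀ := by
      rintro _ ⟨a, rfl⟩
      have h1 : f.fiberι (genericPoint ↥Y) (σ a) = s (genericPoint ↥Y) := by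
        rw [← Scheme.Hom.comp_apply, hσι, Scheme.Hom.comp_apply,
          Scheme.fromSpecResidueField_apply]
      have h2 : σ a = z₀ := (f.fiberι (genericPoint ↥Y)).isEmbedding.injective (h1.trans hz₀.symm)
      rw [h2]; exact mem_connectedComponent
    have hc : GeometricallyConnected ((j ≫ f).fiberToSpecResidueField (genericPoint ↥Y)) := by
      rw [← fiberBC_comp j f (genericPoint ↥Y)]
      refine geometricallyConnected_of_range (L := Y.residueField (genericPoint ↥Y))
        (f.fiberToSpecResidueField (genericPoint ↥Y)) (fiberBC j f (genericPoint ↥Y)) ?_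
      intro K _ _
      have h2 : Set.range (fiberBC j f (genericPoint ↥Y)) = connectedComponent z₀ := by
        rw [range_fiberBC, hj]
        exact hpre₀
      rw [h2]
      exact isConnected_preimage_connectedComponent_of_rational
        (L := Y.residueField (genericPoint ↥Y))
        (f.fiberToSpecResidueField (genericPoint ↥Y)) σ hσ z₀ hσr K
    obtain ⟨V, hne, hV⟩ := Groth.Agent.S0420.result (j ≫ f) hc
    refine ⟨V, hne, ?_⟩
    intro v hv
    have hqr : Set.range (Y.fromSpecResidueField v) ⊆ (V : Set ↥Y) := by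
      rintro _ ⟨a, rfl⟩
      rw [Scheme.fromSpecResidueField_apply]; exact hv
    haveI : ConnectedSpace ↥(pullback (j ≫ f) (Y.fromSpecResidueField v)) :=
      pullback_of_geometrically_restrict (P := (ConnectedSpace ·)) (j ≫ f) V
        hV.geometrically_connectedSpace (Y.fromSpecResidueField v) hqr
    have heq : Z₀ ∩ ⇑f ⁻¹' {v} = ⇑j '' Set.range ((j ≫ f).fiberι v) := by
      rw [(j ≫ f).range_fiberι v]
      ext x
      constructor
      · rintro ⟨hx0, hxv⟩
        rw [← hj] at hx0
        obtain ⟨a, rfl⟩ := hx0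
        exact ⟨a, by simpa [Scheme.Hom.comp_apply] using hxv, rfl⟩
      · rintro ⟨a, ha, rfl⟩
        exact ⟨hj ▸ ⟨a, rfl⟩, by simpa [Scheme.Hom.comp_apply] using ha⟩
    rw [heq]
    refine IsPreconnected.image ?_ _ j.continuous.continuousOn
    have : _root_.IsConnected (Set.range ((j ≫ f).fiberι v)) := by
      rw [← Set.image_univ]
      exact (connectedSpace_iff_univ.mp
        (inferInstanceAs (ConnectedSpace ↥(pullback (j ≫ f) (Y.fromSpecResidueField v))))).image _
        ((j ≫ f).fiberι v).continuous.continuousOn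
    exact this.isPreconnected
  -- the section lands in `Z₀`
  have hsZ₀ : ∀ v : ↥Y, s v ∈ Z₀ := by
    have hcl : IsClosed (⇑s ⁻¹' Z₀) := isClosed_closure.preimage s.continuous
    have hη : genericPoint ↥Y ∈ ⇑s ⁻¹' Z₀ := by
      show s (genericPoint ↥Y) ∈ Z₀
      rw [← hz₀]
      exact subset_closure ⟨z₀, mem_connectedComponent, rfl⟩
    intro v
    have : v ∈ closure ({genericPoint ↥Y} : Set ↥Y) := by
      rw [(genericPoint_spec ↥Y).def]; trivial
    exact hcl.closure_subset_iff.mpr (Set.singleton_subset_iff.mpr hη) this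
  refine ⟨V₁ ⊓ V₂, ⟨genericPoint_mem_of_nonempty _ hV₁ne, genericPoint_mem_of_nonempty _ hV₂ne⟩,
    Z₀, Z₁, isClosed_closure, isClosed_closure, fun x _ => hcov x, ?_, ?_⟩
  · rw [Set.eq_empty_iff_forall_notMem]
    rintro x ⟨hx01, hxV⟩
    exact (Set.disjoint_left.mp hV₁ hxV.1) ⟨x, hx01, rfl⟩
  · intro v hv
    exact ⟨hV₂ v hv.2, hsZ₀ v⟩

end Groth.Agent.H8.GC
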