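import Mathlib
import Groth.Prelude
import Groth.Agent.S0414
import Groth.Agent.H8.GC.SecFlat
import Groth.Agent.H8.GC.Red
import Groth.Agent.H8.GC.Locus

/-!
# The components of the fibres met by a section are open and closed over a neighbourhood of the
generic point of `closure {y}` (S1325) (helper8)
-/

set_option autoImplicit false
set_option linter.style.haveILetI false
set_option linter.unusedSectionVars false

open CategoryTheory AlgebraicGeometry Limits TopologicalSpace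

namespace Groth.Agent.H8.GC

universe u

theorem sectionComponents_eq_secComp {X Y : Scheme.{u}} (f : X ⟶ Y) (s : Y ⟶ X) :
    MoreMor.sectionComponents f s = secComp (⇑f) (⇑s) := rfl

/-- Transfer of `SecSplit` along a cartesian square whose top arrow is an embedding. -/
theorem SecSplit.of_isPullback {X Y X' Y' : Scheme.{u}} {f : X ⟶ Y} {g : Y' ⟶ Y}
    {f' : X' ⟶ Y'} {g' : X' ⟶ X} (hc : IsPullback g' f' f g)
    (hg' : Topology.IsEmbedding g') (hg : Function.Injective g) {s : Y ⟶ X} {s' : Y' ⟶ X'}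
    (hss : s' ≫ g' = g ≫ s) {V' : Set ↥Y'} (h : SecSplit (⇑f') (⇑s') V') :
    SecSplit (⇑f) (⇑s) (g '' V') := by
  refine SecSplit.transfer hg' hg ?_ (range_fst_of_isPullback hc) ?_ h
  · intro x'
    rw [← Scheme.Hom.comp_apply, ← Scheme.Hom.comp_apply, hc.w]
  · intro y'
    rw [← Scheme.Hom.comp_apply, ← Scheme.Hom.comp_apply, hss]

/-- The section induced on a base change. -/
noncomputable def bcSection {X Y X' Y' : Scheme.{u}} {f : X ⟶ Y} {g : Y' ⟶ Y}
    {f' : X' ⟶ Y'} {g' : X' ⟶ X} (hc : IsPullback g' f' f g) (s : Y ⟶ X) (hs : s ≫ f = 𝟙 Y) :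
    Y' ⟶ X' :=
  hc.lift (g ≫ s) (𝟙 Y') (by rw [Category.assoc, hs, Category.comp_id, Category.id_comp])

theorem bcSection_fst {X Y X' Y' : Scheme.{u}} {f : X ⟶ Y} {g : Y' ⟶ Y}
    {f' : X' ⟶ Y'} {g' : X' ⟶ X} (hc : IsPullback g' f' f g) (s : Y ⟶ X) (hs : s ≫ f = 𝟙 Y) :
    bcSection hc s hs ≫ g' = g ≫ s := hc.lift_fst _ _ _

theorem bcSection_snd {X Y X' Y' : Scheme.{u}} {f : X ⟶ Y} {g : Y' ⟶ Y}
    {f' : X' ⟶ Y'} {g' : X' ⟶ X} (hc : IsPullback g' f' f g) (s : Y ⟶ X) (hs : s ≫ f = 𝟙 Y) :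
    bcSection hc s hs ≫ f' = 𝟙 Y' := hc.lift_snd _ _ _

theorem exists_open_secSplit_of_isReduced {X Y : Scheme.{u}} (f : X ⟶ Y) (s : Y ⟶ X)
    (hs : s ≫ f = 𝟙 Y) [IrreducibleSpace ↥Y] [IsReduced Y] [LocallyOfFiniteType f]
    [QuasiCompact f] :
    ∃ V : Set ↥Y, IsOpen V ∧ genericPoint ↥Y ∈ V ∧ SecSplit (⇑f) (⇑s) V := by
  obtain ⟨U, hUd, hflat, hlfp⟩ := Groth.Agent.S0414.result f
  haveI : IsIntegral Y := isIntegral_of_irreducibleSpace_of_isReduced Y
  haveI : Nonempty ↥(U : Scheme.{u}) := by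
    obtain ⟨y, hy⟩ := hUd.nonempty
    exact ⟨⟨y, hy⟩⟩
  haveI : IsIntegral (U : Scheme.{u}) := isIntegral_of_isOpenImmersion U.ι
  haveI : IrreducibleSpace ↥(U : Scheme.{u}) := inferInstance
  have hc := (isPullback_morphismRestrict f U).flip
  obtain ⟨V', hη', hV'⟩ := secSplit_of_flat (f ∣_ U) (bcSection hc s hs) (bcSection_snd hc s hs)
  have hopen : IsOpenMap U.ι := U.ι.isOpenEmbedding.isOpenMap
  have hη : U.ι (genericPoint ↥(U : Scheme.{u})) = genericPoint ↥Y :=
    map_genericPoint_of_denseRange U.ι (denseRange_of_isOpenMap U.ι hopen)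
  refine ⟨U.ι '' (V' : Set ↥(U : Scheme.{u})), hopen _ V'.isOpen, ⟨_, hη', hη⟩, ?_⟩
  exact SecSplit.of_isPullback hc (f ⁻¹ᵁ U).ι.isEmbedding U.ι.isEmbedding.injective
    (bcSection_fst hc s hs) hV'

theorem exists_open_secSplit {X Y : Scheme.{u}} (f : X ⟶ Y) (s : Y ⟶ X)
    (hs : s ≫ f = 𝟙 Y) [IrreducibleSpace ↥Y] [LocallyOfFiniteType f] [QuasiCompact f] :
    ∃ V : Set ↥Y, IsOpen V ∧ genericPoint ↥Y ∈ V ∧ SecSplit (⇑f) (⇑s) V := by
  have hc := IsPullback.of_hasPullback f (redι Y)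
  obtain ⟨V', hV'o, hη', hV'⟩ := exists_open_secSplit_of_isReduced (pullback.snd f (redι Y))
    (bcSection hc s hs) (bcSection_snd hc s hs)
  have hη : redι Y (genericPoint ↥(red Y)) = genericPoint ↥Y :=
    map_genericPoint_of_denseRange (redι Y) (redι_surjective Y).denseRange
  refine ⟨redι Y '' V', redι_isOpenMap Y _ hV'o, ⟨_, hη', hη⟩, ?_⟩
  exact SecSplit.of_isPullback hc (pullback.fst f (redι Y)).isEmbedding
    (redι_isHomeomorph Y).injective (bcSection_fst hc s hs) hV'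

/-- The statement of S1325. -/
theorem exists_isClopen_sectionComponents {X Y : Scheme.{u}} (f : X ⟶ Y) (s : Y ⟶ X)
    (hs : s ≫ f = 𝟙 Y) [LocallyOfFiniteType f] [QuasiCompact f] (y : ↥Y) :
    ∃ V : Set ↥Y, V ⊆ closure {y} ∧ y ∈ V ∧
      IsOpen (Subtype.val ⁻¹' V : Set ↥(closure ({y} : Set ↥Y))) ∧
      IsClopen (Subtype.val ⁻¹' MoreMor.sectionComponents f s : Set ↥(⇑f ⁻¹' V)) := by
  let I := Scheme.IdealSheafData.vanishingIdeal ⟨closure {y}, isClosed_closure⟩
  let i : I.subscheme ⟶ Y := I.subschemeι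
  have hi : Set.range i = closure {y} := by
    rw [Scheme.IdealSheafData.range_subschemeι, Scheme.IdealSheafData.coe_support_vanishingIdeal]
    rfl
  haveI : IrreducibleSpace ↥I.subscheme := by
    rw [Groth.Agent.Lib.Helper50.irreducibleSpace_iff_isIrreducible_range i.isEmbedding, hi]
    exact isIrreducible_singleton.closure
  have hζ : i (genericPoint ↥I.subscheme) = y := by
    have h1 : IsGenericPoint (i (genericPoint ↥I.subscheme)) (closure (i '' Set.univ)) :=
      (genericPoint_spec ↥I.subscheme).image i.continuous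
    rw [Set.image_univ, hi, closure_closure] at h1
    exact h1.eq rfl
  have hc := IsPullback.of_hasPullback f i
  obtain ⟨W, hWo, hζW, hW⟩ := exists_open_secSplit (pullback.snd f i)
    (bcSection hc s hs) (bcSection_snd hc s hs)
  have hsplit : SecSplit (⇑f) (⇑s) (i '' W) :=
    SecSplit.of_isPullback hc (pullback.fst f i).isEmbedding i.isEmbedding.injective
      (bcSection_fst hc s hs) hW
  have hfs : ∀ v : ↥Y, f (s v) = v := by
    intro v
    rw [← Scheme.Hom.comp_apply, hs]; rfl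
  refine ⟨i '' W, ?_, ⟨_, hζW, hζ⟩, ?_, ?_⟩
  · rintro _ ⟨w, -, rfl⟩
    rw [← hi]; exact ⟨w, rfl⟩
  · obtain ⟨O, hO, hOW⟩ := i.isEmbedding.isInducing.isOpen_iff.mp hWo
    have : (Subtype.val ⁻¹' (i '' W) : Set ↥(closure ({y} : Set ↥Y))) =
        Subtype.val ⁻¹' O := by
      ext ⟨a, ha⟩
      simp only [Set.mem_preimage]
      constructor
      · rintro ⟨w, hw, rfl⟩
        rw [← hOW] at hw; exact hw
      · intro haO
        rw [← hi] at ha
        obtain ⟨w, rfl⟩ := ha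
        exact ⟨w, by rw [← hOW]; exact haO, rfl⟩
    rw [this]
    exact hO.preimage continuous_subtype_val
  · rw [sectionComponents_eq_secComp]
    exact SecSplit.isClopen hfs hsplit

end Groth.Agent.H8.GC
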