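import Mathlib
import Groth.Prelude
import Groth.Agent.H8.GC.SecMain

/-!
# The components of the fibres met by a section commute with base change (helper8)
-/

set_option autoImplicit false
set_option linter.style.haveILetI false
set_option linter.unusedSectionVars false

open CategoryTheory AlgebraicGeometry Limits TopologicalSpace

namespace Groth.Agent.H8.GC

universe u

/-- The connected component of a rational point has connected preimage in every base change to
a field (form with an arbitrary cartesian square). -/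
theorem isConnected_preimage_connectedComponent_of_rational' {L : Type u} [Field L]
    {F : Scheme.{u}} [Finite (_root_.ConnectedComponents ↥F)]
    (sF : F ⟶ Spec (CommRingCat.of L)) (σ : Spec (CommRingCat.of L) ⟶ F) (hσ : σ ≫ sF = 𝟙 _)
    (z₀ : ↥F) (hz₀ : Set.range σ ⊆ connectedComponent z₀)
    {K : Type u} [Field K] (q : Spec (CommRingCat.of K) ⟶ Spec (CommRingCat.of L))
    {T : Scheme.{u}} (fst : T ⟶ F) (snd : T ⟶ Spec (CommRingCat.of K))
    (hT : IsPullback fst snd sF q) :
    _root_.IsConnected (⇑fst ⁻¹' connectedComponent z₀) := by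
  let U₀ : F.Opens := ⟨connectedComponent z₀, (isClopen_connectedComponent_of_finite z₀).2⟩
  haveI : ConnectedSpace ↥(U₀ : Scheme.{u}) :=
    isConnected_iff_connectedSpace.mp (isConnected_connectedComponent (x := z₀))
  have hr : Set.range σ ⊆ Set.range U₀.ι := by
    rw [Scheme.Opens.range_ι]; exact hz₀
  let e : Spec (CommRingCat.of L) ⟶ (U₀ : Scheme.{u}) := IsOpenImmersion.lift U₀.ι σ hr
  have he : e ≫ U₀.ι = σ := IsOpenImmersion.lift_fac _ _ _
  have hgc : GeometricallyConnected (U₀.ι ≫ sF) :=
    geometricallyConnected_of_rational (U₀.ι ≫ sF) e (by rw [← Category.assoc, he, hσ])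
  haveI : ConnectedSpace ↥(pullback (U₀.ι ≫ sF) q) :=
    hgc.geometrically_connectedSpace q _ _ (IsPullback.of_hasPullback _ _)
  have hrange := range_bcHom U₀.ι sF q
  rw [Scheme.Opens.range_ι] at hrange
  have h1 : _root_.IsConnected (⇑(pullback.fst sF q) ⁻¹' (U₀ : Set ↥F)) := by
    rw [← hrange, ← Set.image_univ]
    exact (connectedSpace_iff_univ.mp inferInstance).image _
      (bcHom U₀.ι sF q).continuous.continuousOn
  have hfst : fst = hT.isoPullback.hom ≫ pullback.fst sF q := hT.isoPullback_hom_fst.symm
  rw [hfst, Scheme.Hom.comp_base, TopCat.coe_comp, Set.preimage_comp]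
  exact isConnected_preimage_of_isIso _ h1

/-- The connected component of a point in a topological fibre, in terms of the scheme-theoretic
fibre. -/
theorem connectedComponentIn_fiber {X Y : Scheme.{u}} (f : X ⟶ Y) (y : ↥Y) (z : ↥(f.fiber y)) :
    connectedComponentIn (⇑f ⁻¹' {y}) (f.fiberι y z) = f.fiberι y '' connectedComponent z := by
  have hmem : f.fiberι y z ∈ ⇑f ⁻¹' {y} := fiberι_mem f y z
  rw [connectedComponentIn_eq_image hmem]
  have h1 := (f.fiberHomeo y).image_connectedComponentIn (s := Set.univ) (x := z) trivial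
  rw [connectedComponentIn_univ, Set.image_univ, (f.fiberHomeo y).surjective.range_eq,
    connectedComponentIn_univ] at h1
  have h2 : (⟨f.fiberι y z, hmem⟩ : ↥(⇑f ⁻¹' {y})) = f.fiberHomeo y z := rfl
  rw [h2, ← h1, Set.image_image]
  rfl

/-- The components of the fibres met by a section commute with base change. -/
theorem secComp_of_isPullback {X Y X' Y' : Scheme.{u}} {f : X ⟶ Y} {g : Y' ⟶ Y}
    {f' : X' ⟶ Y'} {g' : X' ⟶ X} (hc : IsPullback g' f' f g) [LocallyOfFiniteType f]
    [QuasiCompact f] {s : Y ⟶ X} {s' : Y' ⟶ X'} (hs : s ≫ f = 𝟙 Y) (hs' : s' ≫ f' = 𝟙 Y')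
    (hss : s' ≫ g' = g ≫ s) :
    secComp (⇑f') (⇑s') = ⇑g' ⁻¹' secComp (⇑f) (⇑s) := by
  ext x'
  set y' := f' x' with hy'
  have hfg : f (g' x') = g y' := by
    rw [← Scheme.Hom.comp_apply, ← Scheme.Hom.comp_apply, hc.w]
  show x' ∈ connectedComponentIn (⇑f' ⁻¹' {y'}) (s' y') ↔
    g' x' ∈ connectedComponentIn (⇑f ⁻¹' {f (g' x')}) (s (f (g' x')))
  rw [hfg]
  -- the fibres
  let π : f'.fiber y' ⟶ f.fiber (g y') :=
    pullback.map f' (Y'.fromSpecResidueField y') f (Y.fromSpecResidueField (g y')) g'
      (Spec.map (g.residueFieldMap y')) g hc.w.symm (by simp)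
  have hpb : IsPullback π (f'.fiberToSpecResidueField y') (f.fiberToSpecResidueField (g y'))
      (Spec.map (g.residueFieldMap y')) :=
    isPullback_fiberToSpecResidueField_of_isPullback hc y'
  have hπι : π ≫ f.fiberι (g y') = f'.fiberι y' ≫ g' := pullback.lift_fst _ _ _
  have hπι' : ∀ w, f.fiberι (g y') (π w) = g' (f'.fiberι y' w) := by
    intro w
    show (π ≫ f.fiberι (g y')) w = _
    rw [hπι]; rfl
  have hfs' : ∀ v, f' (s' v) = v := by
    intro v
    rw [← Scheme.Hom.comp_apply, hs']; rfl
  have hsg : ∀ v, g' (s' v) = s (g v) := by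
    intro v
    rw [← Scheme.Hom.comp_apply, hss, Scheme.Hom.comp_apply]
  -- points of the fibres
  obtain ⟨z', hz'⟩ : x' ∈ Set.range (f'.fiberι y') := by
    rw [f'.range_fiberι]; rfl
  obtain ⟨z₀', hz₀'⟩ : s' y' ∈ Set.range (f'.fiberι y') := by
    rw [f'.range_fiberι]; exact hfs' y'
  have hz₀ : f.fiberι (g y') (π z₀') = s (g y') := by rw [hπι', hz₀', hsg]
  have hz : f.fiberι (g y') (π z') = g' x' := by rw [hπι', hz']
  rw [← hz₀', ← hz₀, connectedComponentIn_fiber, connectedComponentIn_fiber, ← hz, ← hz']
  rw [(f'.fiberι y').isEmbedding.injective.mem_set_image,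
    (f.fiberι (g y')).isEmbedding.injective.mem_set_image]
  -- the comparison of connected components
  haveI := finite_connectedComponents_fiber f (g y')
  let σ : Spec (Y.residueField (g y')) ⟶ f.fiber (g y') :=
    pullback.lift (Y.fromSpecResidueField (g y') ≫ s) (𝟙 _)
      (by rw [Category.assoc, hs, Category.comp_id, Category.id_comp])
  have hσ : σ ≫ f.fiberToSpecResidueField (g y') = 𝟙 _ := pullback.lift_snd _ _ _
  have hσι : σ ≫ f.fiberι (g y') = Y.fromSpecResidueField (g y') ≫ s :=
    pullback.lift_fst _ _ _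
  have hσr : Set.range σ ⊆ connectedComponent (π z₀') := by
    rintro _ ⟨a, rfl⟩
    have h1 : f.fiberι (g y') (σ a) = s (g y') := by
      rw [← Scheme.Hom.comp_apply, hσι, Scheme.Hom.comp_apply,
        Scheme.fromSpecResidueField_apply]
    have h2 : σ a = π z₀' := (f.fiberι (g y')).isEmbedding.injective (h1.trans hz₀.symm)
    rw [h2]; exact mem_connectedComponent
  have hconn : _root_.IsConnected (⇑π ⁻¹' connectedComponent (π z₀')) :=
    isConnected_preimage_connectedComponent_of_rational'
      (L := Y.residueField (g y')) (K := Y'.residueField y')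
      (f.fiberToSpecResidueField (g y')) σ hσ (π z₀') hσr
      (Spec.map (g.residueFieldMap y')) π (f'.fiberToSpecResidueField y') hpb
  have heq : connectedComponent z₀' = ⇑π ⁻¹' connectedComponent (π z₀') := by
    apply Set.Subset.antisymm
    · intro w hw
      have himg : _root_.IsPreconnected (⇑π '' connectedComponent z₀') :=
        isPreconnected_connectedComponent.image _ π.continuous.continuousOn
      exact himg.subset_connectedComponent ⟨z₀', mem_connectedComponent, rfl⟩ ⟨w, hw, rfl⟩
    · exact hconn.isPreconnected.subset_connectedComponent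
        (show z₀' ∈ ⇑π ⁻¹' connectedComponent (π z₀') from mem_connectedComponent)
  rw [heq]
  rfl

end Groth.Agent.H8.GC
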