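import Mathlib
import Groth.Prelude
import Groth.Agent.Lib.Helper12.ConstrTop
import Groth.Agent.H8.GC.SecBC

/-!
# Constructibility of the components of the fibres met by a section: Noetherian case (helper8)
-/

set_option autoImplicit false
set_option linter.style.haveILetI false
set_option linter.unusedSectionVars false

open CategoryTheory AlgebraicGeometry Limits TopologicalSpace Topology

namespace Groth.Agent.H8.GC

universe u

/-- `SecSplit` form of S1325. -/
theorem exists_secSplit_near {X Y : Scheme.{u}} (f : X ⟶ Y) (s : Y ⟶ X)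
    (hs : s ≫ f = 𝟙 Y) [LocallyOfFiniteType f] [QuasiCompact f] (y : ↥Y) :
    ∃ V : Set ↥Y, V ⊆ closure {y} ∧ y ∈ V ∧
      IsOpen (Subtype.val ⁻¹' V : Set ↥(closure ({y} : Set ↥Y))) ∧
      SecSplit (⇑f) (⇑s) V := by
  let I := Scheme.IdealSheafData.vanishingIdeal ⟨closure {y}, isClosed_closure⟩
  let i : I.subscheme ⟶ Y := I.subschemeι
  have hi : Set.range i = closure {y} := by
    rw [Scheme.IdealSheafData.range_subschemeι, Scheme.IdealSheafData.coe_support_vanishingIdeal]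
    rfl
  haveI : IrreducibleSpace ↥I.subscheme := by
    rw [Groth.Agent.Lib.Helper50.irreducibleSpace_iff_isIrreducible_range i.isEmbedding, hi]
    exact isIrreducible_singleton.closure
  have hζ : i (genericPoint ↥I.subscheme) = y := by
    have h1 : IsGenericPoint (i (genericPoint ↥I.subscheme)) (closure (i '' Set.univ)) :=
      (genericPoint_spec ↥I.subscheme).image i.continuous
    rw [Set.image_univ, hi, closure_closure] at h1
    exact h1.eq rfl
  have hc := IsPullback.of_hasPullback f i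
  obtain ⟨W, hWo, hζW, hW⟩ := exists_open_secSplit (pullback.snd f i)
    (bcSection hc s hs) (bcSection_snd hc s hs)
  have hsplit : SecSplit (⇑f) (⇑s) (i '' W) :=
    SecSplit.of_isPullback hc (pullback.fst f i).isEmbedding i.isEmbedding.injective
      (bcSection_fst hc s hs) hW
  refine ⟨i '' W, ?_, ⟨_, hζW, hζ⟩, ?_, hsplit⟩
  · rintro _ ⟨w, -, rfl⟩
    rw [← hi]; exact ⟨w, rfl⟩
  · obtain ⟨O, hO, hOW⟩ := i.isEmbedding.isInducing.isOpen_iff.mp hWo
    have : (Subtype.val ⁻¹' (i '' W) : Set ↥(closure ({y} : Set ↥Y))) =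
        Subtype.val ⁻¹' O := by
      ext ⟨a, ha⟩
      simp only [Set.mem_preimage]
      constructor
      · rintro ⟨w, hw, rfl⟩
        rw [← hOW] at hw; exact hw
      · intro haO
        rw [← hi] at ha
        obtain ⟨w, rfl⟩ := ha
        exact ⟨w, by rw [← hOW]; exact haO, rfl⟩
    rw [this]
    exact hO.preimage continuous_subtype_val

/-- Noetherian case: the components of the fibres met by a section form a constructible set. -/
theorem isConstructible_secComp {X Y : Scheme.{u}} (f : X ⟶ Y) (s : Y ⟶ X)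
    (hs : s ≫ f = 𝟙 Y) [LocallyOfFiniteType f] [QuasiCompact f] [NoetherianSpace ↥X] :
    IsConstructible (secComp (⇑f) (⇑s)) := by
  have hfs : ∀ v : ↥Y, f (s v) = v := by
    intro v
    rw [← Scheme.Hom.comp_apply, hs]; rfl
  rw [Groth.Agent.Lib.Helper12.ConstrTop.isConstructible_iff_forall_irreducible_closed]
  intro T hTc hTi
  have hξ := hTi.isGenericPoint_genericPoint hTc
  set ξ := hTi.genericPoint with hξdef
  obtain ⟨V, hVsub, hyV, hVo, Z₀, Z₁, hZ₀, hZ₁, hcov, hdisj, hV⟩ := exists_secSplit_near f s hs (f ξ)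
  rw [isOpen_induced_iff] at hVo
  obtain ⟨O, hO, hOV⟩ := hVo
  -- `T` maps into the closure of `f ξ`
  have hTcl : ∀ x ∈ T, f x ∈ closure ({f ξ} : Set ↥Y) := by
    intro x hx
    have h1 : x ∈ closure ({ξ} : Set ↥X) := hξ.def ▸ hx
    have h2 := image_closure_subset_closure_image f.continuous ⟨x, h1, rfl⟩
    rwa [Set.image_singleton] at h2
  have hTV : ∀ x ∈ T, f x ∈ O → f x ∈ V := by
    intro x hx hxO
    have : (⟨f x, hTcl x hx⟩ : ↥(closure ({f ξ} : Set ↥Y))) ∈ Subtype.val ⁻¹' O := hxO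
    rw [hOV] at this
    exact this
  have hξO : f ξ ∈ O := by
    have : (⟨f ξ, subset_closure rfl⟩ : ↥(closure ({f ξ} : Set ↥Y))) ∈ Subtype.val ⁻¹' V := hyV
    rw [← hOV] at this
    exact this
  -- `T` lies in one of three closed sets
  have hTsub : T ⊆ (Z₀ ∪ Z₁) ∪ (⇑f ⁻¹' O)ᶜ := by
    intro x hx
    by_cases hxO : f x ∈ O
    · exact Or.inl (hcov (hTV x hx hxO))
    · exact Or.inr hxO
  have hOc : IsClosed (⇑f ⁻¹' O)ᶜ := (hO.preimage f.continuous).isClosed_compl
  have hnot : ¬ T ⊆ (⇑f ⁻¹' O)ᶜ := fun h => h hξ.mem hξO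
  have hcase : T ⊆ Z₀ ∨ T ⊆ Z₁ := by
    rcases (isPreirreducible_iff_isClosed_union_isClosed.mp hTi.isPreirreducible)
      (Z₀ ∪ Z₁) _ (hZ₀.union hZ₁) hOc hTsub with h | h
    · exact (isPreirreducible_iff_isClosed_union_isClosed.mp hTi.isPreirreducible)
        Z₀ Z₁ hZ₀ hZ₁ h
    · exact absurd h hnot
  rcases hcase with h0 | h1
  · right
    refine ⟨⇑f ⁻¹' O, hO.preimage f.continuous, ⟨ξ, hξO, hξ.mem⟩, ?_⟩
    rintro x ⟨hxO, hxT⟩
    exact (SecSplit.mem_secComp_iff hfs hZ₀ hZ₁ hcov hdisj hV (hTV x hxT hxO)).mpr (h0 hxT)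
  · left
    have : IrreducibleSpace ↥T := (isIrreducible_iff_irreducibleSpace (s := T)).1 hTi
    have hUo : IsOpen (Subtype.val ⁻¹' (⇑f ⁻¹' O) : Set ↥T) :=
      (hO.preimage f.continuous).preimage continuous_subtype_val
    have hUd : Dense (Subtype.val ⁻¹' (⇑f ⁻¹' O) : Set ↥T) := hUo.dense ⟨⟨ξ, hξ.mem⟩, hξO⟩
    have hsub' : (Subtype.val ⁻¹' secComp (⇑f) (⇑s) : Set ↥T) ⊆
        (Subtype.val ⁻¹' (⇑f ⁻¹' O) : Set ↥T)ᶜ := by
      intro z hzE hzO
      have hzV : f z.1 ∈ V := hTV z.1 z.2 hzO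
      have hz0 : z.1 ∈ Z₀ := (SecSplit.mem_secComp_iff hfs hZ₀ hZ₁ hcov hdisj hV hzV).mp hzE
      have : z.1 ∈ Z₀ ∩ Z₁ ∩ ⇑f ⁻¹' V := ⟨⟨hz0, h1 z.2⟩, hzV⟩
      rw [hdisj] at this
      exact this
    have hcl : closure (Subtype.val ⁻¹' secComp (⇑f) (⇑s) : Set ↥T) ⊆
        (Subtype.val ⁻¹' (⇑f ⁻¹' O) : Set ↥T)ᶜ :=
      closure_minimal hsub' hUo.isClosed_compl
    rw [IsNowhereDense, ← Set.subset_empty_iff]
    calc interior (closure (Subtype.val ⁻¹' secComp (⇑f) (⇑s) : Set ↥T))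
        ⊆ interior ((Subtype.val ⁻¹' (⇑f ⁻¹' O) : Set ↥T)ᶜ) := interior_mono hcl
      _ = ∅ := by rw [interior_compl, hUd.closure_eq, Set.compl_univ]

end Groth.Agent.H8.GC
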