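import Mathlib
import Groth.Prelude
import Groth.Agent.S0591
import Groth.Agent.Lib.Helper7.FgSubalgLimit
import Groth.Agent.H8.GC.SecCons

/-!
# Local constructibility of the components of the fibres met by a section, for morphisms of
finite presentation (S1326) (helper8)
-/

set_option autoImplicit false
set_option linter.style.haveILetI false
set_option linter.unusedSectionVars false

open CategoryTheory AlgebraicGeometry Limits TopologicalSpace Topology
open Groth.Agent.Lib.Helper7.FgSubalgLimit

namespace Groth.Agent.H8.GC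

universe u

set_option backward.isDefEq.respectTransparency false in
/-- The case of a spectrum. -/
theorem isConstructible_secComp_Spec {A : Type u} [CommRing A] {X : Scheme.{u}}
    (f : X ⟶ Spec (CommRingCat.of A)) (s : Spec (CommRingCat.of A) ⟶ X) (hs : s ≫ f = 𝟙 _)
    [LocallyOfFinitePresentation f] [QuasiCompact f] [QuasiSeparated f] :
    IsConstructible (secComp (⇑f) (⇑s)) := by
  have hq : ∀ i : (Finset A)ᵒᵖ, CompactSpace ((specD A).obj i) := fun i => inferInstance
  have hqs : ∀ i : (Finset A)ᵒᵖ, QuasiSeparatedSpace ((specD A).obj i) := fun i => inferInstance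
  have haff : ∀ (i j : (Finset A)ᵒᵖ) (a : i ⟶ j), IsAffineHom ((specD A).map a) :=
    fun i j a => inferInstance
  obtain ⟨i, Xi, fi, g, h1, h2, h3, hpb⟩ :=
    Groth.Agent.S0591.result (specD A) (specC A) (isLimitSpecC A) X (f : X ⟶ (specC A).pt)
  -- descend the section
  let D₁ : Over i ⥤ Scheme.{u} := Over.forget i ⋙ specD A
  let t₁ : D₁ ⟶ (Functor.const (Over i)).obj ((specD A).obj i) :=
    { app := fun k => (specD A).map k.hom
      naturality := fun k k' a => by
        change (specD A).map a.left ≫ (specD A).map k'.hom = (specD A).map k.hom ≫ 𝟙 _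
        rw [← (specD A).map_comp, Over.w a, Category.comp_id] }
  let c₁ : Cone D₁ := (specC A).whisker (Over.forget i)
  have hc₁ : IsLimit c₁ :=
    (Functor.Initial.isLimitWhiskerEquiv (Over.forget i) (specC A)).symm (isLimitSpecC A)
  have i1 : ∀ {k k' : Over i} (a : k ⟶ k'), IsAffineHom (D₁.map a) := fun a => haff _ _ a.left
  have i2 : ∀ k, CompactSpace (D₁.obj k) :=
    fun k => inferInstanceAs (CompactSpace ((specD A).obj k.left))
  have i3 : ∀ k, QuasiSeparatedSpace (D₁.obj k) :=
    fun k => inferInstanceAs (QuasiSeparatedSpace ((specD A).obj k.left))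
  let a : (specC A).pt ⟶ Xi := s ≫ g
  have haf : a ≫ fi = (specC A).π.app i := by
    show (s ≫ g) ≫ fi = _
    rw [Category.assoc, hpb.w, ← Category.assoc]
    have : s ≫ (f : X ⟶ (specC A).pt) = 𝟙 _ := hs
    rw [this, Category.id_comp]
  have ha : c₁.π ≫ t₁ = (Functor.const _).map (a ≫ fi) := by
    ext k
    change (specC A).π.app k.left ≫ (specD A).map k.hom = a ≫ fi
    rw [haf, (specC A).w]
  obtain ⟨k, gk, hg₁, hg₂⟩ := Scheme.exists_π_app_comp_eq_of_locallyOfFinitePresentation
    D₁ t₁ fi c₁ hc₁ a ha
  replace hg₁ : (specC A).π.app k.left ≫ gk = a := hg₁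
  replace hg₂ : gk ≫ fi = (specD A).map k.hom := hg₂
  -- the model at stage `k`
  let fk : pullback ((specD A).map k.hom) fi ⟶ (specD A).obj k.left :=
    pullback.fst ((specD A).map k.hom) fi
  let sk : (specD A).obj k.left ⟶ pullback ((specD A).map k.hom) fi :=
    pullback.lift (𝟙 _) gk (by rw [Category.id_comp, hg₂])
  have hsk : sk ≫ fk = 𝟙 _ := pullback.lift_fst _ _ _
  have hw : (specC A).π.app k.left ≫ (specD A).map k.hom = (specC A).π.app i := (specC A).w k.hom
  let gX : X ⟶ pullback ((specD A).map k.hom) fi :=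
    pullback.lift (f ≫ (specC A).π.app k.left) g (by
      rw [Category.assoc, hw]
      exact hpb.w.symm)
  have hgX1 : gX ≫ fk = f ≫ (specC A).π.app k.left := pullback.lift_fst _ _ _
  have hgX2 : gX ≫ pullback.snd ((specD A).map k.hom) fi = g := pullback.lift_snd _ _ _
  have hright : IsPullback (pullback.snd ((specD A).map k.hom) fi) fk fi ((specD A).map k.hom) :=
    (IsPullback.of_hasPullback ((specD A).map k.hom) fi).flip
  have hbig : IsPullback (gX ≫ pullback.snd ((specD A).map k.hom) fi) f fi
      ((specC A).π.app k.left ≫ (specD A).map k.hom) := by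
    rw [hgX2, hw]
    exact hpb
  have hleft : IsPullback gX f fk ((specC A).π.app k.left) :=
    IsPullback.of_right hbig hgX1 hright
  have hss : s ≫ gX = (specC A).π.app k.left ≫ sk := by
    apply pullback.hom_ext
    · rw [Category.assoc, Category.assoc]
      show s ≫ gX ≫ fk = (specC A).π.app k.left ≫ sk ≫ fk
      rw [hgX1, hsk, Category.comp_id, ← Category.assoc]
      have : s ≫ (f : X ⟶ (specC A).pt) = 𝟙 _ := hs
      rw [this, Category.id_comp]
    · rw [Category.assoc, Category.assoc, hgX2]
      have : sk ≫ pullback.snd ((specD A).map k.hom) fi = gk := pullback.lift_snd _ _ _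
      rw [this, hg₁]
  -- Noetherianity
  haveI : LocallyOfFinitePresentation fk :=
    MorphismProperty.pullback_fst (P := @LocallyOfFinitePresentation) _ _ h1
  haveI : QuasiCompact fk := MorphismProperty.pullback_fst (P := @QuasiCompact) _ _ h2
  haveI : LocallyOfFiniteType fk := inferInstance
  haveI : IsNoetherianRing ↥(Algebra.adjoin ℤ ((k.left.unop : Finset A) : Set A)) := by
    haveI : Algebra.FiniteType ℤ ↥(Algebra.adjoin ℤ ((k.left.unop : Finset A) : Set A)) :=
      (Subalgebra.fg_iff_finiteType _).mp (Subalgebra.fg_adjoin_finset _)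
    exact Algebra.FiniteType.isNoetherianRing ℤ _
  haveI : IsNoetherian ((specD A).obj k.left) := by
    show IsNoetherian (Spec (CommRingCat.of ↥(Algebra.adjoin ℤ ((k.left.unop : Finset A) : Set A))))
    infer_instance
  haveI : IsLocallyNoetherian (pullback ((specD A).map k.hom) fi) :=
    LocallyOfFiniteType.isLocallyNoetherian fk
  haveI : CompactSpace ↥(pullback ((specD A).map k.hom) fi) :=
    QuasiCompact.compactSpace_of_compactSpace fk
  haveI : IsNoetherian (pullback ((specD A).map k.hom) fi) := {}
  have hcons := isConstructible_secComp fk sk hsk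
  have heq := secComp_of_isPullback hleft hsk hs hss
  rw [heq]
  exact Scheme.Hom.isConstructible_preimage _ hcons

/-- The case of an affine base. -/
theorem isConstructible_secComp_of_isAffine {X Y : Scheme.{u}} (f : X ⟶ Y) (s : Y ⟶ X)
    (hs : s ≫ f = 𝟙 Y) [IsAffine Y]
    [LocallyOfFinitePresentation f] [QuasiCompact f] [QuasiSeparated f] :
    IsConstructible (secComp (⇑f) (⇑s)) := by
  have hs₂ : (Y.isoSpec.inv ≫ s) ≫ (f ≫ Y.isoSpec.hom) = 𝟙 _ := by
    rw [Category.assoc, ← Category.assoc s, hs, Category.id_comp, Iso.inv_hom_id]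
  have hcons := isConstructible_secComp_Spec (A := Γ(Y, ⊤)) (f ≫ Y.isoSpec.hom)
    (Y.isoSpec.inv ≫ s) hs₂
  have hpb : IsPullback (𝟙 X) f (f ≫ Y.isoSpec.hom) Y.isoSpec.hom :=
    IsPullback.of_horiz_isIso ⟨by simp⟩
  have hss : s ≫ 𝟙 X = Y.isoSpec.hom ≫ (Y.isoSpec.inv ≫ s) := by
    rw [Category.comp_id, Iso.hom_inv_id_assoc]
  have heq := secComp_of_isPullback hpb hs₂ hs hss
  rw [heq]
  exact Scheme.Hom.isConstructible_preimage _ hcons

/-- The statement of S1326. -/
theorem isLocallyConstructible_sectionComponents {X Y : Scheme.{u}} (f : X ⟶ Y) (s : Y ⟶ X)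
    (hs : s ≫ f = 𝟙 Y)
    [LocallyOfFinitePresentation f] [QuasiCompact f] [QuasiSeparated f] :
    IsLocallyConstructible (MoreMor.sectionComponents f s) := by
  rw [sectionComponents_eq_secComp]
  have hcov : IsOpenCover (fun i : Y.affineOpens => f ⁻¹ᵁ i.1) :=
    (IsOpenCover.mk (u := fun i : Y.affineOpens => i.1)
      (iSup_affineOpens_eq_top Y)).comap f.base.hom
  refine IsLocallyConstructible.of_isOpenCover hcov ?_
  intro U
  haveI : IsAffine ↑U.1 := U.2
  have hc := (isPullback_morphismRestrict f U.1).flip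
  have hcons := isConstructible_secComp_of_isAffine (f ∣_ U.1) (bcSection hc s hs)
    (bcSection_snd hc s hs)
  have heq := secComp_of_isPullback hc hs (bcSection_snd hc s hs) (bcSection_fst hc s hs)
  rw [heq] at hcons
  exact hcons.isLocallyConstructible

end Groth.Agent.H8.GC
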